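import Cfsg.Agent.Lib.ThOut39.Facts
import Cfsg.Prelude.Def_KGroupFacts

/-!
Every automorphism of a group built on `Kbar` and one more element as in the Thompson group is
inner.
-/

set_option autoImplicit false

namespace Cfsg.Agent.Lib.ThOut39

open Cfsg.Agent.Lib.ThK83 (Kbar rep)

/-- what the proof needs from the double coset model -/
structure Setup (G : Type*) [Group G] where
  ι : Kbar →* G
  inj : Function.Injective ι
  u : G
  gen : Subgroup.closure (Set.range ι ∪ {u}) = ⊤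
  notMem : u ∉ ι.range
  n7 : ∀ g : G, g * ι eS * g⁻¹ ∈ Subgroup.zpowers (ι eS) → g ∈ ι.range
  conj7 : ∀ x : G, x ^ 7 = 1 → x ≠ 1 → ∃ g : G, g * x * g⁻¹ ∈ Subgroup.zpowers (ι eS)
  u_map : ∀ y ∈ U, ∃ z ∈ U, u⁻¹ * ι y * u = ι z
  u_stab : ∀ y : Kbar, u⁻¹ * ι y * u ∈ ι.range → y ∈ U
  suborbit : ∀ g : G, g ∉ ι.range → (∀ y ∈ U, g⁻¹ * ι y * g ∈ ι.range) →
    ∃ h k, g = ι h * u * ι k

theorem conj_mul_apply {G : Type*} [Group G] (a : G) (φ : MulAut G) (x : G) :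
    (MulAut.conj a * φ) x = a * φ x * a⁻¹ := rfl

theorem inner_of_conj_mul {G : Type*} [Group G] {a : G} {φ : MulAut G}
    (h : ∃ g, MulAut.conj a * φ = MulAut.conj g) : ∃ g, φ = MulAut.conj g := by
  obtain ⟨g, hg⟩ := h
  exact ⟨a⁻¹ * g, by rw [map_mul, map_inv, ← hg, inv_mul_cancel_left]⟩

theorem s_order_eq : orderOf eS = 7 :=
  have : Fact (Nat.Prime 7) := ⟨by norm_num⟩
  orderOf_eq_prime s_pow7 s_ne

/-- a line in the plane over seven elements -/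
def lineOf (p : Fin 7 × Fin 7) : Fin 8 :=
  if p.2 = 0 then 7 else ⟨((p.1 * (p.2 * p.2 * p.2 * p.2 * p.2) : Fin 7) : ℕ), by omega⟩

theorem lineOf_spec : ∀ p q : Fin 7 × Fin 7, p ≠ (0, 0) → q ≠ (0, 0) → lineOf p = lineOf q →
    ∃ e : Fin 7, q = (e * p.1, e * p.2) := by decide +kernel

/-- powers of six cover the nonzero residues -/
theorem unit_word : ∀ k : Fin 7, k ≠ 0 → ∃ a : Fin 3, ∃ b : Fin 2,
    (k : ℕ) * (2 ^ (a : ℕ) * 6 ^ (b : ℕ)) % 7 = 1 := by decide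

variable {G : Type*} [Group G] (P : Setup G)

namespace Setup

theorem zpowers_pow {y : G} (h : y ∈ Subgroup.zpowers (P.ι eS)) :
    ∃ n < 7, y = P.ι (eS ^ n) := by
  obtain ⟨n, rfl⟩ := h
  refine ⟨(n % 7).toNat, by omega, ?_⟩
  rw [map_pow, ← zpow_natCast, Int.toNat_of_nonneg (Int.emod_nonneg n (by norm_num))]
  show P.ι eS ^ n = _
  have h7 : P.ι eS ^ (7 : ℕ) = 1 := by rw [← map_pow, s_pow7, map_one]
  conv_lhs => rw [show n = n % 7 + 7 * (n / 7) by omega, zpow_add, zpow_mul, zpow_ofNat, h7,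
    one_zpow, mul_one]

/-- the centraliser of `s` lies in the image -/
theorem cent_range {g : G} (h : Commute g (P.ι eS)) : ∃ k, Commute k eS ∧ P.ι k = g := by
  have hg : g * P.ι eS * g⁻¹ = P.ι eS := by rw [h.eq, mul_inv_cancel_right]
  obtain ⟨k, rfl⟩ := P.n7 g (by rw [hg]; exact Subgroup.mem_zpowers _)
  exact ⟨k, P.inj (by rw [map_mul, map_mul, h.eq]), rfl⟩

theorem ne_one_of {φ : MulAut G} {k : Kbar} (hk : k ≠ 1) : φ (P.ι k) ≠ 1 := fun h =>
  hk (P.inj (by rw [map_one]; exact φ.injective (h.trans (map_one φ).symm)))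

/-- an element of order three normalising the group of `s` and `w` lies in the image -/
theorem mem_of_norm {g : G} (h3 : g ^ 3 = 1) {a b c d : ℕ}
    (hs : g⁻¹ * P.ι eS * g = P.ι (eS ^ a * eW ^ b))
    (hw : g⁻¹ * P.ι eW * g = P.ι (eS ^ c * eW ^ d)) : g ∈ P.ι.range := by
  let Q : Subgroup G := Subgroup.closure {P.ι eS, P.ι eW}
  have hgen : ∀ m n : ℕ, P.ι (eS ^ m * eW ^ n) ∈ Q := fun m n => by
    rw [map_mul, map_pow, map_pow]
    exact mul_mem (Q.pow_mem (Subgroup.subset_closure (Set.mem_insert _ _)) m)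
      (Q.pow_mem (Subgroup.subset_closure (Set.mem_insert_of_mem _ rfl)) n)
  have hgQ : ∀ y ∈ Q, g⁻¹ * y * g ∈ Q := by
    intro y hy
    induction hy using Subgroup.closure_induction with
    | mem y hy =>
      rcases hy with rfl | rfl
      · rw [hs]; exact hgen a b
      · rw [hw]; exact hgen c d
    | one => simp
    | mul x y _ _ hx hy =>
      have e : g⁻¹ * (x * y) * g = g⁻¹ * x * g * (g⁻¹ * y * g) := by group
      rw [e]; exact mul_mem hx hy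
    | inv x _ hx =>
      have e : g⁻¹ * x⁻¹ * g = (g⁻¹ * x * g)⁻¹ := by group
      rw [e]; exact inv_mem hx
  have hrQ : ∀ y ∈ Q, (P.ι eR)⁻¹ * y * P.ι eR ∈ Q := by
    intro y hy
    induction hy using Subgroup.closure_induction with
    | mem y hy =>
      rcases hy with rfl | rfl
      · rw [← map_inv, ← map_mul, ← map_mul, r_conj_s]; simpa using hgen 3 1
      · rw [← map_inv, ← map_mul, ← map_mul, r_conj_w]; exact hgen 2 2
    | one => simp
    | mul x y _ _ hx hy =>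
      have e : (P.ι eR)⁻¹ * (x * y) * P.ι eR =
          (P.ι eR)⁻¹ * x * P.ι eR * ((P.ι eR)⁻¹ * y * P.ι eR) := by group
      rw [e]; exact mul_mem hx hy
    | inv x _ hx =>
      have e : (P.ι eR)⁻¹ * x⁻¹ * P.ι eR = ((P.ι eR)⁻¹ * x * P.ι eR)⁻¹ := by group
      rw [e]; exact inv_mem hx
  have hcomm : Commute (P.ι eS) (P.ι eW) := w_comm.symm.map P.ι
  have hQel : ∀ y ∈ Q, ∃ p : Fin 7 × Fin 7, y = P.ι (eS ^ (p.1 : ℕ) * eW ^ (p.2 : ℕ)) := by
    have red : ∀ m n : ℕ, ∃ p : Fin 7 × Fin 7,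
        P.ι (eS ^ m * eW ^ n) = P.ι (eS ^ (p.1 : ℕ) * eW ^ (p.2 : ℕ)) := fun m n =>
      ⟨(⟨m % 7, Nat.mod_lt _ (by norm_num)⟩, ⟨n % 7, Nat.mod_lt _ (by norm_num)⟩), by
        show _ = P.ι (eS ^ (m % 7) * eW ^ (n % 7))
        rw [← pow_eq_pow_mod m s_pow7, ← pow_eq_pow_mod n w_pow7]⟩
    intro y hy
    induction hy using Subgroup.closure_induction with
    | mem y hy =>
      rcases hy with rfl | rfl
      · simpa using red 1 0
      · simpa using red 0 1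
    | one => exact ⟨(0, 0), by simp⟩
    | mul x y _ _ hx hy =>
      obtain ⟨p, rfl⟩ := hx
      obtain ⟨q, rfl⟩ := hy
      rw [← map_mul]
      have e : eS ^ (p.1 : ℕ) * eW ^ (p.2 : ℕ) * (eS ^ (q.1 : ℕ) * eW ^ (q.2 : ℕ)) =
          eS ^ ((p.1 : ℕ) + q.1) * eW ^ ((p.2 : ℕ) + q.2) := by
        rw [pow_add, pow_add, mul_assoc, ← mul_assoc (eW ^ _), (w_comm.pow_pow _ _).eq]
        simp only [mul_assoc]
      rw [e]; exact red _ _
    | inv x _ hx =>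
      obtain ⟨p, rfl⟩ := hx
      obtain ⟨q, hq⟩ := red (6 * p.1) (6 * p.2)
      refine ⟨q, ?_⟩
      rw [← hq, ← map_inv]
      congr 1
      refine inv_eq_of_mul_eq_one_right ?_
      rw [mul_assoc, ← mul_assoc (eW ^ _), (w_comm.pow_pow _ _).eq]
      simp only [← mul_assoc, ← pow_add]
      rw [show (p.1 : ℕ) + 6 * p.1 = 7 * p.1 by ring, mul_assoc, ← pow_add,
        show (p.2 : ℕ) + 6 * p.2 = 7 * p.2 by ring, pow_mul, pow_mul, s_pow7, w_pow7, one_pow,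
        one_pow, one_mul]
  let cg : Fin 3 × Fin 3 → G := fun x =>
    P.ι eR ^ (x.2 : ℕ) * g ^ (x.1 : ℕ)
  have hcQ : ∀ x, (cg x)⁻¹ * P.ι eS * cg x ∈ Q := by
    have hstep : ∀ (z : G), (∀ y ∈ Q, z⁻¹ * y * z ∈ Q) → ∀ n : ℕ, ∀ y ∈ Q,
        (z ^ n)⁻¹ * y * z ^ n ∈ Q := by
      intro z hz n
      induction n with
      | zero => intro y hy; simpa using hy
      | succ n ih =>
        intro y hy
        have e : (z ^ (n + 1))⁻¹ * y * z ^ (n + 1) = z⁻¹ * ((z ^ n)⁻¹ * y * z ^ n) * z := by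
          rw [pow_succ]; group
        rw [e]; exact hz _ (ih y hy)
    intro x
    have e : (cg x)⁻¹ * P.ι eS * cg x = (g ^ (x.1 : ℕ))⁻¹ *
        ((P.ι eR ^ (x.2 : ℕ))⁻¹ * P.ι eS * P.ι eR ^ (x.2 : ℕ)) * g ^ (x.1 : ℕ) := by
      simp only [cg]; group
    rw [e]
    exact hstep g hgQ _ _ (hstep _ hrQ _ _ (Subgroup.subset_closure (Set.mem_insert _ _)))
  choose vec hvec using fun x => hQel _ (hcQ x)
  obtain ⟨x, y, hxy, hl⟩ := Fintype.exists_ne_map_eq_of_card_lt (fun x => lineOf (vec x)) (by simp)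
  have hnz : ∀ z, vec z ≠ (0, 0) := by
    intro z hz
    have h := hvec z
    rw [hz] at h
    simp only [Fin.val_zero, pow_zero, mul_one, map_one] at h
    have h2 : P.ι eS = 1 := by
      have := congrArg (fun t => cg z * t * (cg z)⁻¹) h
      simpa [mul_assoc] using this
    exact s_ne (P.inj (h2.trans (map_one _).symm))
  obtain ⟨e, he⟩ := lineOf_spec _ _ (hnz x) (hnz y) hl
  have hpow : (cg y)⁻¹ * P.ι eS * cg y = ((cg x)⁻¹ * P.ι eS * cg x) ^ (e : ℕ) := by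
    rw [hvec y, hvec x, ← map_pow, he]
    congr 1
    rw [(w_comm.symm.pow_pow _ _).mul_pow, ← pow_mul, ← pow_mul]
    simp only [Fin.val_mul]
    rw [← pow_eq_pow_mod _ s_pow7, ← pow_eq_pow_mod _ w_pow7, mul_comm (e : ℕ),
      mul_comm (e : ℕ) ((vec x).2 : ℕ)]
  have hk : cg x * (cg y)⁻¹ ∈ P.ι.range := by
    refine P.n7 _ ?_
    have e1 : cg x * (cg y)⁻¹ * P.ι eS * (cg x * (cg y)⁻¹)⁻¹ =
        cg x * ((cg y)⁻¹ * P.ι eS * cg y) * (cg x)⁻¹ := by group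
    rw [e1, hpow, ← MulAut.conj_apply, map_pow, MulAut.conj_apply]
    refine Subgroup.pow_mem _ ?_ _
    have e2 : cg x * ((cg x)⁻¹ * P.ι eS * cg x) * (cg x)⁻¹ = P.ι eS := by group
    rw [e2]; exact Subgroup.mem_zpowers _
  have hR : ∀ n : ℕ, P.ι eR ^ n ∈ P.ι.range := fun n => P.ι.range.pow_mem ⟨eR, rfl⟩ n
  have hij : g ^ (x.1 : ℕ) * (g ^ (y.1 : ℕ))⁻¹ ∈ P.ι.range := by
    have e : g ^ (x.1 : ℕ) * (g ^ (y.1 : ℕ))⁻¹ =
        (P.ι eR ^ (x.2 : ℕ))⁻¹ * (cg x * (cg y)⁻¹) * P.ι eR ^ (y.2 : ℕ) := by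
      simp only [cg]; group
    rw [e]; exact mul_mem (mul_mem (inv_mem (hR _)) hk) (hR _)
  by_contra hg
  have hp : ∀ n : ℕ, g ^ n ∈ P.ι.range → n % 3 = 0 := by
    intro n hn
    by_contra h
    apply hg
    have hn' : g ^ (n % 3) ∈ P.ι.range := by rwa [← pow_eq_pow_mod n h3]
    rcases (show n % 3 = 1 ∨ n % 3 = 2 by omega) with h1 | h1
    · rwa [h1, pow_one] at hn'
    · rw [h1] at hn'
      have := mul_mem hn' hn'
      rwa [← pow_add, pow_eq_pow_mod (2 + 2) h3, pow_one] at this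
  have h1 : (x.1 : ℕ) = y.1 := by
    have h := hp ((x.1 : ℕ) + 2 * y.1) (by
      have e : g ^ ((x.1 : ℕ) + 2 * y.1) = g ^ (x.1 : ℕ) * (g ^ (y.1 : ℕ))⁻¹ := by
        rw [pow_add, mul_left_cancel_iff]
        refine eq_inv_of_mul_eq_one_left ?_
        rw [← pow_add, show 2 * (y.1 : ℕ) + y.1 = 3 * y.1 by ring, pow_mul, h3, one_pow]
      rw [e]; exact hij)
    omega
  have h2 : (x.2 : ℕ) ≠ y.2 := fun h => hxy (Prod.ext (Fin.ext h1) (Fin.ext h))
  set n := (x.2 : ℕ) + 2 * y.2 with hn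
  have hnorm : ∃ m : ℕ, eR ^ n * eS * (eR ^ n)⁻¹ = eS ^ m := by
    refine ⟨e, P.inj ?_⟩
    have hR3 : P.ι eR ^ n = P.ι eR ^ (x.2 : ℕ) * (P.ι eR ^ (y.2 : ℕ))⁻¹ := by
      rw [hn, pow_add, mul_left_cancel_iff]
      refine eq_inv_of_mul_eq_one_left ?_
      rw [← pow_add, show 2 * (y.2 : ℕ) + y.2 = 3 * y.2 by ring, ← map_pow, pow_mul, r_pow3,
        one_pow, map_one]
    rw [map_mul, map_mul, map_inv, map_pow, map_pow, hR3]
    have hpow' : (P.ι eR ^ (y.2 : ℕ))⁻¹ * P.ι eS * P.ι eR ^ (y.2 : ℕ) =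
        ((P.ι eR ^ (x.2 : ℕ))⁻¹ * P.ι eS * P.ι eR ^ (x.2 : ℕ)) ^ (e : ℕ) := by
      have h : g ^ (x.1 : ℕ) * ((cg y)⁻¹ * P.ι eS * cg y) * (g ^ (x.1 : ℕ))⁻¹ =
          (g ^ (x.1 : ℕ) * ((cg x)⁻¹ * P.ι eS * cg x) * (g ^ (x.1 : ℕ))⁻¹) ^ (e : ℕ) := by
        rw [hpow, conj_pow]
      simpa [cg, ← h1, mul_assoc] using h
    calc P.ι eR ^ (x.2 : ℕ) * (P.ι eR ^ (y.2 : ℕ))⁻¹ * P.ι eS *
          (P.ι eR ^ (x.2 : ℕ) * (P.ι eR ^ (y.2 : ℕ))⁻¹)⁻¹
        = MulAut.conj (P.ι eR ^ (x.2 : ℕ))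
            ((P.ι eR ^ (y.2 : ℕ))⁻¹ * P.ι eS * P.ι eR ^ (y.2 : ℕ)) := by
          rw [MulAut.conj_apply]; group
      _ = P.ι eS ^ (e : ℕ) := by
          rw [hpow', MulAut.conj_apply, ← conj_pow]
          congr 1
          group
  obtain ⟨m, hm⟩ := hnorm
  have hn3 : n % 3 = 1 ∨ n % 3 = 2 := by omega
  rw [pow_eq_pow_mod n r_pow3] at hm
  have hr2 : eR⁻¹ = eR ^ 2 := inv_eq_of_mul_eq_one_right (by rw [← pow_succ', r_pow3])
  obtain ⟨m', hm'⟩ : ∃ m' : ℕ, eR⁻¹ * eS * eR = eS ^ m' := by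
    rcases hn3 with h | h <;> rw [h] at hm
    · refine ⟨m * m, ?_⟩
      rw [pow_one] at hm
      calc eR⁻¹ * eS * eR = eR ^ 2 * eS * (eR ^ 2)⁻¹ := by rw [← hr2, inv_inv]
        _ = eR * (eR * eS * eR⁻¹) * eR⁻¹ := by rw [pow_two]; simp only [mul_inv_rev, mul_assoc]
        _ = MulAut.conj eR (eS ^ m) := by rw [hm, MulAut.conj_apply]
        _ = eS ^ (m * m) := by rw [map_pow, MulAut.conj_apply, hm, ← pow_mul]
    · exact ⟨m, by rwa [← hr2, inv_inv] at hm⟩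
  rw [r_conj_s] at hm'
  refine w_not_pow ?_
  rw [eq_inv_mul_iff_mul_eq.2 hm']
  exact mul_mem (inv_mem (Subgroup.pow_mem _ (Subgroup.mem_zpowers _) _))
    (Subgroup.pow_mem _ (Subgroup.mem_zpowers _) _)

/-- an automorphism fixing `s` and moving `b`, `c`, `d c d` to a reference triple fixes them -/
theorem trip_zero {φ : MulAut G} {v : ℕ} (hv : v = 0 ∨ v = 3) (hs : φ (P.ι eS) = P.ι eS)
    (hb : φ (P.ι eB) = P.ι (eTr v)) (hc : φ (P.ι eC) = P.ι (eTr (v + 1)))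
    (hx : φ (P.ι eX) = P.ι (eTr (v + 2))) : v = 0 := by
  obtain rfl | rfl := hv
  · rfl
  exfalso
  obtain ⟨-, -, -, hbcx, halt⟩ := eTr_ref
  have hW : φ (P.ι eW) = P.ι (eW ^ 6) := by
    rw [← hbcx, map_mul, map_mul, map_mul, map_mul, hb, hc, hx, ← map_mul, ← map_mul]
    exact congrArg P.ι (halt.trans (by rw [hbcx]))
  have hg3 : φ (P.ι eR) ^ 3 = 1 := by rw [← map_pow, ← map_pow, r_pow3, map_one, map_one]
  have hgs : (φ (P.ι eR))⁻¹ * P.ι eS * φ (P.ι eR) = P.ι (eS ^ 3 * eW ^ 6) := by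
    conv_lhs => rw [← hs, ← map_inv, ← map_mul, ← map_mul, ← map_inv, ← map_mul, ← map_mul,
      r_conj_s, map_mul, map_pow, map_mul, map_pow, hs, hW]
    rw [map_mul, map_pow, map_pow]
  have hgw : (φ (P.ι eR))⁻¹ * P.ι eW * φ (P.ι eR) = P.ι (eS ^ (2 * 6) * eW ^ 2) := by
    have hW' : P.ι eW = φ (P.ι (eW ^ 6)) := by
      have h36 : eW ^ (6 * 6) = eW := by rw [pow_eq_pow_mod _ w_pow7]; simp
      rw [map_pow, map_pow, hW, ← map_pow, ← pow_mul, h36]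
    conv_lhs => rw [hW', ← map_inv, ← map_mul, ← map_mul, ← map_inv, ← map_mul, ← map_mul]
    have e : eR⁻¹ * eW ^ 6 * eR = (eR⁻¹ * eW * eR) ^ 6 := by
      have := map_pow (MulAut.conj eR⁻¹) eW 6
      simpa [MulAut.conj_apply] using this
    rw [e, r_conj_w, (w_comm.symm.pow_pow _ _).mul_pow, ← pow_mul, ← pow_mul]
    rw [map_mul, map_pow, map_pow, map_mul, map_pow, map_pow, hs, hW, map_mul, map_pow,
      map_pow, map_pow, ← pow_mul (P.ι eW)]
    congr 1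
    rw [← map_pow, ← map_pow, pow_eq_pow_mod (6 * (2 * 6)) w_pow7, pow_eq_pow_mod 2 w_pow7]
  obtain ⟨k, hk⟩ := P.mem_of_norm hg3 hgs hgw
  rw [← hk, ← map_inv, ← map_mul, ← map_mul] at hgs
  exact bad_sw ((P.inj hgs) ▸ fixSome_conj k good_s)

/-- after an adjustment the automorphism fixes `s`, `b`, `c`, `d c d` and `r` -/
theorem adjust (φ : MulAut G) : ∃ a : G, ∀ y ∈ ({eS, eB, eC, eX, eR} : Set Kbar),
    (MulAut.conj a * φ) (P.ι y) = P.ι y := by
  obtain ⟨g₁, hg₁⟩ := P.conj7 (φ (P.ι eS))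
    (by rw [← map_pow, ← map_pow, s_pow7, map_one, map_one]) (P.ne_one_of s_ne)
  obtain ⟨k, hk, ek⟩ := P.zpowers_pow hg₁
  have hk0 : k ≠ 0 := by
    rintro rfl
    rw [pow_zero, map_one, mul_inv_eq_one, mul_eq_left] at ek
    exact P.ne_one_of s_ne ek
  obtain ⟨a, b, hab⟩ := unit_word ⟨k, hk⟩ (fun h => hk0 (congrArg Fin.val h))
  obtain ⟨y0, hy0⟩ : ∃ y0, y0 = eT ^ (a : ℕ) * eD ^ (b : ℕ) := ⟨_, rfl⟩
  have hy : y0⁻¹ * eS * y0 = eS ^ (2 ^ (a : ℕ) * 6 ^ (b : ℕ)) := by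
    have gen : ∀ (x : Kbar) (q : ℕ), x⁻¹ * eS * x = eS ^ q → ∀ n : ℕ,
        (x ^ n)⁻¹ * eS * x ^ n = eS ^ (q ^ n) := by
      intro x q hx n
      induction n with
      | zero => simp
      | succ n ih =>
        have e : (x ^ (n + 1))⁻¹ * eS * x ^ (n + 1) =
            MulAut.conj x⁻¹ ((x ^ n)⁻¹ * eS * x ^ n) := by
          rw [MulAut.conj_apply, pow_succ]; group
        rw [e, ih, map_pow, MulAut.conj_apply, inv_inv, hx, ← pow_mul, pow_succ']
    have e : y0⁻¹ * eS * y0 = MulAut.conj (eD ^ (b : ℕ))⁻¹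
        ((eT ^ (a : ℕ))⁻¹ * eS * eT ^ (a : ℕ)) := by
      rw [hy0, MulAut.conj_apply]; group
    rw [e, gen eT 2 t_conj.1, map_pow, MulAut.conj_apply, inv_inv, gen eD 6 t_conj.2, ← pow_mul,
      mul_comm]
  set a₁ := (P.ι y0)⁻¹ * g₁ with ha₁
  set φ₁ := MulAut.conj a₁ * φ with hφ₁
  have hS : φ₁ (P.ι eS) = P.ι eS := by
    rw [hφ₁, conj_mul_apply, ha₁]
    calc (P.ι y0)⁻¹ * g₁ * φ (P.ι eS) * ((P.ι y0)⁻¹ * g₁)⁻¹
        = (P.ι y0)⁻¹ * (g₁ * φ (P.ι eS) * g₁⁻¹) * P.ι y0 := by group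
      _ = P.ι (MulAut.conj y0⁻¹ (eS ^ k)) := by
          rw [ek, MulAut.conj_apply, inv_inv, map_mul, map_mul, map_inv]
      _ = P.ι eS := by
          rw [map_pow, MulAut.conj_apply, inv_inv, hy, ← pow_mul, mul_comm,
            pow_eq_pow_mod _ s_pow7]
          have hab' : k * (2 ^ (a : ℕ) * 6 ^ (b : ℕ)) % 7 = 1 := hab
          rw [hab', pow_one]
  have himg : ∀ y ∈ ({eB, eC, eX} : Set Kbar), ∃ i < 21, φ₁ (P.ι y) = P.ι (eI i) := by
    intro y hy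
    obtain ⟨h2, h1, hc⟩ := bcx_facts y hy
    obtain ⟨z, hz, ez⟩ := P.cent_range (g := φ₁ (P.ι y)) (by
      have := (hc.map P.ι).map φ₁.toMonoidHom
      simpa [hS] using this)
    obtain ⟨i, hi, rfl⟩ := exists_inv hz
      (P.inj (by rw [map_pow, ez, ← map_pow, ← map_pow, h2, map_one, map_one]))
      (fun h => P.ne_one_of h1 (by rw [← ez, h, map_one]))
    exact ⟨i, hi, ez.symm⟩
  obtain ⟨i, hi, ei⟩ := himg eB (by simp)
  obtain ⟨j, hj, ej⟩ := himg eC (by simp)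
  obtain ⟨l, hl, el⟩ := himg eX (by simp)
  have hT : TripCond (eI i) (eI j) (eI l) := by
    have tr : ∀ {p q p' q' : Kbar}, φ₁ (P.ι p) = P.ι p' → φ₁ (P.ι q) = P.ι q' → ∀ n : ℕ,
        (p' * q') ^ n = 1 ↔ (p * q) ^ n = 1 := by
      intro p q p' q' hp hq n
      constructor <;> intro h
      · apply P.inj; apply φ₁.injective
        rw [map_pow, map_mul, map_pow, map_mul, hp, hq, ← map_mul, ← map_pow, h, map_one,
          map_one]
      · apply P.inj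
        rw [map_pow, map_mul, ← hp, ← hq, ← map_mul, ← map_pow, ← map_mul, ← map_pow, h, map_one,
          map_one]
    obtain ⟨c1, c2, c3, c4, c5, c6⟩ := tripCond_base
    exact ⟨(tr ei ej 3).2 c1, fun h => c2 (by simpa using (tr ei ej 1).1 (by simpa using h)),
      (tr ei el 3).2 c3, fun h => c4 (by simpa using (tr ei el 1).1 (by simpa using h)),
      (tr ej el 4).2 c5, fun h => c6 ((tr ej el 2).1 h)⟩
  obtain ⟨v, hv, m, m', hmm, hmc, e1, e2, e3⟩ := trip_find hi hj hl hT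
  have hm' : m' = m⁻¹ := eq_inv_of_mul_eq_one_left hmm
  set φ₂ := MulAut.conj (P.ι m) * φ₁ with hφ₂
  have move : ∀ {p q : Kbar}, φ₁ (P.ι p) = P.ι (m' * q * m) → φ₂ (P.ι p) = P.ι q := by
    intro p q h
    rw [hφ₂, conj_mul_apply, h, hm', map_mul, map_mul, map_inv]; group
  have hS₂ : φ₂ (P.ι eS) = P.ι eS := by
    rw [hφ₂, conj_mul_apply, hS, ← map_mul, ← map_inv, ← map_mul, hmc.eq, mul_inv_cancel_right]
  have hv0 := P.trip_zero hv hS₂ (move (ei.trans (congrArg P.ι e1)))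
    (move (ej.trans (congrArg P.ι e2))) (move (el.trans (congrArg P.ι e3)))
  subst hv0
  obtain ⟨t0, t1, t2, hbcx, -⟩ := eTr_ref
  have hB : φ₂ (P.ι eB) = P.ι eB := by rw [move (ei.trans (congrArg P.ι e1)), t0]
  have hC : φ₂ (P.ι eC) = P.ι eC := by rw [move (ej.trans (congrArg P.ι e2)), t1]
  have hX : φ₂ (P.ι eX) = P.ι eX := by rw [move (el.trans (congrArg P.ι e3)), t2]
  have hW : φ₂ (P.ι eW) = P.ι eW := by
    rw [← hbcx]; simp only [map_mul, hB, hC, hX]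
  set g := φ₂ (P.ι eR) with hg
  have hg3 : g ^ 3 = 1 := by rw [hg, ← map_pow, ← map_pow, r_pow3, map_one, map_one]
  have hgs : g⁻¹ * P.ι eS * g = P.ι (eS ^ 3 * eW ^ 1) := by
    conv_lhs => rw [hg, ← hS₂, ← map_inv, ← map_mul, ← map_mul, ← map_inv, ← map_mul, ← map_mul,
      r_conj_s]
    rw [pow_one]; simp only [map_mul, map_pow, hS₂, hW]
  have hgw : g⁻¹ * P.ι eW * g = P.ι (eS ^ 2 * eW ^ 2) := by
    conv_lhs => rw [hg, ← hW, ← map_inv, ← map_mul, ← map_mul, ← map_inv, ← map_mul, ← map_mul,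
      r_conj_w]
    simp only [map_mul, map_pow, hS₂, hW]
  obtain ⟨k', hk'⟩ := P.mem_of_norm hg3 hgs hgw
  have hq : ∀ {y z : Kbar}, k'⁻¹ * y * k' = z → eR⁻¹ * y * eR = z →
      Commute (k' * eR⁻¹) y := by
    intro y z h h'
    have : k'⁻¹ * y * k' = eR⁻¹ * y * eR := h.trans h'.symm
    show k' * eR⁻¹ * y = y * (k' * eR⁻¹)
    calc k' * eR⁻¹ * y = k' * (eR⁻¹ * y * eR) * eR⁻¹ := by group
      _ = k' * (k'⁻¹ * y * k') * eR⁻¹ := by rw [this]
      _ = y * (k' * eR⁻¹) := by group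
  have hks : k'⁻¹ * eS * k' = eS ^ 3 * eW := by
    refine P.inj ?_
    rw [map_mul, map_mul, map_inv, hk', hgs, pow_one]
  have hkw : k'⁻¹ * eW * k' = eS ^ 2 * eW ^ 2 := by
    refine P.inj ?_
    rw [map_mul, map_mul, map_inv, hk', hgw]
  obtain ⟨n, hn⟩ := r_find (hq hks r_conj_s) (hq hkw r_conj_w) (by
    rw [inv_mul_cancel_right]
    exact P.inj (by rw [map_pow, hk', hg3, map_one]))
  rw [inv_mul_cancel_right] at hn
  refine ⟨P.ι (eS ^ n) * P.ι m * a₁, fun y hy => ?_⟩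
  rw [map_mul, map_mul, mul_assoc, mul_assoc, ← hφ₁, ← hφ₂, conj_mul_apply]
  have hsn : ∀ {z : Kbar}, Commute z eS →
      P.ι (eS ^ n) * P.ι z * (P.ι (eS ^ n))⁻¹ = P.ι z := by
    intro z hz
    rw [← map_mul, ← map_inv, ← map_mul, ← (hz.pow_right n).eq, mul_inv_cancel_right]
  simp only [Set.mem_insert_iff, Set.mem_singleton_iff] at hy
  rcases hy with rfl | rfl | rfl | rfl | rfl
  · rw [hS₂]; exact hsn (Commute.refl _)
  · rw [hB]; exact hsn (bcx_facts eB (by simp)).2.2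
  · rw [hC]; exact hsn (bcx_facts eC (by simp)).2.2
  · rw [hX]; exact hsn (bcx_facts eX (by simp)).2.2
  · rw [← hg, ← hk', hn, map_mul, map_mul, map_inv]; group

/-- such an automorphism fixes the image pointwise -/
theorem fix_range {φ : MulAut G}
    (h : ∀ y ∈ ({eS, eB, eC, eX, eR} : Set Kbar), φ (P.ι y) = P.ι y) :
    ∀ y : Kbar, φ (P.ι y) = P.ι y := by
  let F : Subgroup Kbar :=
    { carrier := {y | φ (P.ι y) = P.ι y}
      one_mem' := by simp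
      mul_mem' := fun {a b} ha hb => by
        show φ (P.ι (a * b)) = _
        rw [map_mul, map_mul, show φ (P.ι a) = _ from ha, show φ (P.ι b) = _ from hb]
      inv_mem' := fun {a} ha => by
        show φ (P.ι a⁻¹) = _
        rw [map_inv, map_inv, show φ (P.ι a) = _ from ha] }
  have hs : eS ∈ F := h eS (by simp)
  have hb : eB ∈ F := h eB (by simp)
  have hc : eC ∈ F := h eC (by simp)
  have hd : eD ∈ F := (gen_mem F hs hb hc (h eX (by simp)) (h eR (by simp))).2.1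
  have ht : eT ∈ F := by
    have hconj : (φ (P.ι eT))⁻¹ * P.ι eS * φ (P.ι eT) = P.ι (eS ^ 2) := by
      conv_lhs => rw [← show φ (P.ι eS) = P.ι eS from hs, ← map_inv, ← map_mul, ← map_mul,
        ← map_inv, ← map_mul, ← map_mul, t_conj.1]
      rw [map_pow, map_pow, show φ (P.ι eS) = P.ι eS from hs]
    have hmem : (φ (P.ι eT))⁻¹ ∈ P.ι.range := by
      refine P.n7 _ ?_
      rw [inv_inv, hconj, map_pow]
      exact Subgroup.pow_mem _ (Subgroup.mem_zpowers _) _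
    obtain ⟨k, hk⟩ := (inv_mem_iff.1 hmem)
    have hk1 : k * eT⁻¹ = 1 := by
      have cm : ∀ {y : Kbar}, y ∈ F → Commute eT y → Commute (k * eT⁻¹) y := by
        intro y hy hc'
        refine Commute.mul_left ?_ hc'.inv_left
        refine P.inj ?_
        rw [map_mul, map_mul, hk, ← show φ (P.ι y) = P.ι y from hy, ← map_mul, ← map_mul,
          ← map_mul, ← map_mul, hc'.eq]
      refine t_find ?_ (cm hb t_comm.1) (cm hc t_comm.2.1) (cm hd t_comm.2.2)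
      have h2 : k⁻¹ * eS * k = eS ^ 2 := by
        refine P.inj ?_
        rw [map_mul, map_mul, map_inv, hk, hconj]
      show k * eT⁻¹ * eS = eS * (k * eT⁻¹)
      calc k * eT⁻¹ * eS = k * (eT⁻¹ * eS * eT) * eT⁻¹ := by group
        _ = k * (k⁻¹ * eS * k) * eT⁻¹ := by rw [h2, t_conj.1]
        _ = eS * (k * eT⁻¹) := by group
    show φ (P.ι eT) = P.ι eT
    rw [← hk, mul_inv_eq_one.1 hk1]
  have := eq_top_of_mem F hs hb hc (h eX (by simp)) (h eR (by simp)) ht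
  exact fun y => (this ▸ Subgroup.mem_top y : y ∈ F)

/-- fixing the image pointwise forces fixing `u` -/
theorem fix_u [Finite Kbar] {φ : MulAut G} (h : ∀ y : Kbar, φ (P.ι y) = P.ι y) :
    φ P.u = P.u := by
  choose f hfU hf using fun y : U => P.u_map y.1 y.2
  have hsurj : Function.Surjective fun y : U => (⟨f y, hfU y⟩ : U) := by
    refine Finite.surjective_of_injective fun y z e => Subtype.ext (P.inj ?_)
    have e' : f y = f z := congrArg Subtype.val e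
    have := (hf y).trans ((congrArg P.ι e').trans (hf z).symm)
    exact mul_left_cancel (mul_right_cancel this)
  have hconj : ∀ y : U, (φ P.u)⁻¹ * P.ι y * φ P.u = P.ι (f y) := by
    intro y
    rw [← h (f y), ← hf y, map_mul, map_mul, map_inv, h]
  have hnot : φ P.u ∉ P.ι.range := by
    rintro ⟨k, hk⟩
    exact P.notMem ⟨k, φ.injective (by rw [h, hk])⟩
  obtain ⟨a, b, hab⟩ := P.suborbit (φ P.u) hnot
    (fun y hy => ⟨f ⟨y, hy⟩, (hconj ⟨y, hy⟩).symm⟩)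
  have ha : a ∈ U := by
    have key : ∀ y ∈ U, a⁻¹ * y * a ∈ U := by
      intro y hy
      refine P.u_stab _ ⟨b * f ⟨y, hy⟩ * b⁻¹, ?_⟩
      rw [map_mul, map_mul, map_inv, ← hconj ⟨y, hy⟩, hab, map_mul, map_mul, map_inv]; group
    have := mem_U_of_conj (k := a⁻¹) fun g hg => by
      simpa using key _ (uGen_mem hg)
    simpa using inv_mem this
  obtain ⟨k, hk⟩ : ∃ k, k = f ⟨a, ha⟩ * b := ⟨_, rfl⟩
  have hu : φ P.u = P.u * P.ι k := by
    rw [hab, hk, map_mul, ← hf]; group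
  have hk1 : k = 1 := by
    refine cent_U fun g hg => ?_
    obtain ⟨y, hy⟩ := hsurj ⟨rep.ev g, uGen_mem hg⟩
    have hy' : f y = rep.ev g := congrArg Subtype.val hy
    have h1 := hconj y
    rw [hu, hy'] at h1
    have h2 : (P.ι k)⁻¹ * P.ι (rep.ev g) * P.ι k = P.ι (rep.ev g) := by
      calc (P.ι k)⁻¹ * P.ι (rep.ev g) * P.ι k
          = (P.ι k)⁻¹ * (P.u⁻¹ * P.ι y * P.u) * P.ι k := by rw [hf, hy']
        _ = _ := by rw [← h1]; group
    refine P.inj ?_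
    rw [map_mul, map_mul]
    calc P.ι k * P.ι (rep.ev g)
        = P.ι k * ((P.ι k)⁻¹ * P.ι (rep.ev g) * P.ι k) := by rw [h2]
      _ = _ := by group
  rw [hu, hk1, map_one, mul_one]

/-- every automorphism is inner -/
theorem inner [Finite Kbar] (P : Setup G) (φ : MulAut G) : ∃ g, φ = MulAut.conj g := by
  obtain ⟨a, ha⟩ := P.adjust φ
  refine inner_of_conj_mul (a := a) ⟨1, ?_⟩
  rw [map_one]
  set ψ := MulAut.conj a * φ
  have hK := P.fix_range ha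
  have hu := P.fix_u hK
  refine MulEquiv.ext fun g => ?_
  show ψ g = g
  have hmem : g ∈ Subgroup.closure (Set.range P.ι ∪ {P.u}) := by rw [P.gen]; exact Subgroup.mem_top g
  induction hmem using Subgroup.closure_induction with
  | mem x hx =>
    rcases hx with ⟨y, rfl⟩ | hx
    · exact hK y
    · rw [Set.mem_singleton_iff.1 hx]; exact hu
  | one => exact map_one _
  | mul x y _ _ hx hy => rw [map_mul, hx, hy]
  | inv x _ hx => rw [map_inv, hx]

theorem card_out [Finite Kbar] [Finite G] (P : Setup G) : Nat.card (Cfsg.Out G) = 1 := by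
  refine Nat.card_eq_one_iff_unique.2 ⟨?_, inferInstance⟩
  refine ⟨fun x y => ?_⟩
  obtain ⟨α, rfl⟩ := QuotientGroup.mk_surjective x
  obtain ⟨β, rfl⟩ := QuotientGroup.mk_surjective y
  rw [QuotientGroup.eq]
  obtain ⟨g, hg⟩ := P.inner (α⁻¹ * β)
  exact ⟨g, hg.symm⟩

end Setup

end Cfsg.Agent.Lib.ThOut39
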