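import Cfsg.Agent.Lib.ThOut39.Kernel
import Cfsg.Agent.Lib.ThOut39.CentData
import Cfsg.Agent.Lib.ThOut39.AutData
import Cfsg.Agent.Lib.ThOut39.QData
import Cfsg.Agent.Lib.ThK83.Tables
import Cfsg.Agent.Lib.ThK83.OrbData

/-! Evaluation of the checks of the automorphism argument. -/

set_option maxRecDepth 100000
set_option maxHeartbeats 0

namespace Cfsg.Agent.Lib.ThOut39

open Cfsg.Agent.Lib.ThK83 (tabs band forallB rangeB nth base Tabs hold)

/-- the words move the base alike -/
noncomputable def eqv (u v : List Nat) : Bool := tabs.same base u v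

/-- a power of a word -/
noncomputable def powW (w : List Nat) (n : Nat) : List Nat :=
  Nat.rec (motive := fun _ => List Nat) [] (fun _ ih => w ++ ih) n

/-- the element is listed -/
noncomputable def memV (x : List Nat) (l : List (List Nat)) : Bool := existsB (eqv x) l

theorem inv_scan : forallB (fun w => ite2 (band (eqv (powW w 2) []) (nay (eqv w [])))
    (memV w invW) true) centList = true := by decide +kernel

/-- the orders of the pairwise products of a generating triple -/
noncomputable def tripTest (i j k : Nat) : Bool :=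
  hold i fun i => hold j fun j => hold k fun k =>
  band (eqv (powW (nth [] invW i ++ nth [] invW k) 3) [])
    (band (nay (eqv (nth [] invW i ++ nth [] invW k) []))
      (band (eqv (powW (nth [] invW j ++ nth [] invW k) 4) [])
        (nay (eqv (powW (nth [] invW j ++ nth [] invW k) 2) []))))

/-- the triple is one of the listed ones -/
noncomputable def tripMem (i j k : Nat) : Bool :=
  existsB (fun e => band (Nat.beq e.1 i) (band (Nat.beq e.2.1 j) (Nat.beq e.2.2.1 k))) trips

/-- all triples with the right first image -/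
noncomputable def tripScan (i : Nat) : Bool :=
  rangeB (fun j => ite2 (band (eqv (powW (nth [] invW i ++ nth [] invW j) 3) [])
      (nay (eqv (nth [] invW i ++ nth [] invW j) [])))
    (rangeB (fun k => ite2 (tripTest i j k) (tripMem i j k) true) 21 0) true) 21 0

theorem trip_scan : rangeB tripScan 21 0 = true := by decide +kernel

theorem trip_len : Nat.beq invW.length 21 = true := by decide +kernel

/-- a listed triple is a conjugate of a reference triple -/
noncomputable def tripEntry (e : Nat × Nat × Nat × Nat × Nat × Nat) : Bool :=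
  band (forallB (fun m => eqv (nth [] lW e.2.2.2.2.2 ++
      (nth [] tripW (Nat.add e.2.2.2.1 m.1) ++ nth [] lW e.2.2.2.2.1)) (nth [] invW m.2))
    [(0, e.1), (1, e.2.1), (2, e.2.2.1)])
    (band (eqv (nth [] lW e.2.2.2.2.2 ++ nth [] lW e.2.2.2.2.1) [])
      (band (eqv (nth [] lW e.2.2.2.2.1 ++ sW) (sW ++ nth [] lW e.2.2.2.2.1))
        (existsB (Nat.beq e.2.2.2.1) [0, 3])))

theorem trips_ok : forallB tripEntry trips = true := by decide +kernel

theorem trip_ref : eqv (nth [] tripW 0) bW = true ∧ eqv (nth [] tripW 1) cW = true ∧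
    eqv (nth [] tripW 2) xW = true ∧ eqv (bW ++ (cW ++ xW)) wW = true ∧
    eqv (nth [] tripW 3 ++ (nth [] tripW 4 ++ nth [] tripW 5)) (powW wW 6) = true := by
  refine ⟨?_, ?_, ?_, ?_, ?_⟩ <;> decide +kernel

theorem base_orders : band (eqv (powW (bW ++ cW) 3) []) (band (nay (eqv (bW ++ cW) []))
    (band (eqv (powW (bW ++ xW) 3) []) (band (nay (eqv (bW ++ xW) []))
      (band (eqv (powW (cW ++ xW) 4) []) (nay (eqv (powW (cW ++ xW) 2) [])))))) = true := by
  decide +kernel

theorem bcx_inv : forallB (fun w => band (eqv (powW w 2) []) (band (nay (eqv w []))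
    (eqv (w ++ sW) (sW ++ w)))) [bW, cW, xW] = true := by decide +kernel

theorem s_order : eqv (powW sW 7) [] = true ∧ nay (eqv sW []) = true := by
  constructor <;> decide +kernel

theorem w_facts : eqv (wW ++ sW) (sW ++ wW) = true ∧ eqv (powW wW 7) [] = true ∧
    nay (memV wW sPows) = true := by
  refine ⟨?_, ?_, ?_⟩ <;> decide +kernel

theorem r_facts : eqv (powW rW 3) [] = true ∧
    eqv (sW ++ rW) (rW ++ (powW sW 3 ++ wW)) = true ∧
    eqv (wW ++ rW) (rW ++ (powW sW 2 ++ powW wW 2)) = true := by
  refine ⟨?_, ?_, ?_⟩ <;> decide +kernel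

theorem r_scan : forallB (fun w => ite2 (band (eqv (w ++ wW) (wW ++ w))
      (eqv (powW (w ++ rW) 3) [])) (memV (w ++ rW) rFam) true) centList = true := by
  decide +kernel

theorem rFam_ok : rangeB (fun i => eqv (nth [] sPows i ++ nth [] rFam i)
    (rW ++ nth [] sPows i)) 7 0 = true := by decide +kernel

theorem t_scan : forallB (fun w => ite2 (band (eqv (w ++ bW) (bW ++ w))
      (band (eqv (w ++ cW) (cW ++ w)) (eqv (w ++ dW) (dW ++ w)))) (eqv w []) true) centList =
    true := by decide +kernel

theorem t_facts : eqv (sW ++ tW) (tW ++ powW sW 2) = true ∧ eqv (sW ++ dW) (dW ++ powW sW 6) = true ∧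
    forallB (fun w => eqv (tW ++ w) (w ++ tW)) [bW, cW, dW] = true := by
  refine ⟨?_, ?_, ?_⟩ <;> decide +kernel

theorem gen_facts : eqv (catW genW dIdx) dW = true ∧ eqv (catW genW eIdx) eWd = true ∧
    eqv (powW (cW ++ xW) 2) aW = true ∧ eqv (nth [] genW 7) aW = true ∧
    eqv (nth [] genW 5 ++ sW) [] = true ∧ eqv (nth [] genW 6 ++ rW) [] = true ∧
    forallB (fun e => eqv (nth [] genW e.1) e.2)
      [(0, sW), (1, bW), (2, cW), (3, xW), (4, rW)] = true := by
  refine ⟨?_, ?_, ?_, ?_, ?_, ?_, ?_⟩ <;> decide +kernel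

theorem q_tables : rangeB (fun l => rangeB (fun p => hold (qtabs.act l p) fun q =>
    band (Nat.blt q 819) (Nat.beq (qtabs.act (ThK83.invL l) q) p)) 819 0) 9 0 = true := by
  decide +kernel

theorem q_good : Nat.beq (qtabs.go sW 0) 0 = true := by decide +kernel

theorem q_bad : rangeB (fun p => nay (Nat.beq (qtabs.go (powW sW 3 ++ powW wW 6) p) p)) 819 0 =
    true := by decide +kernel

end Cfsg.Agent.Lib.ThOut39
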