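import Cfsg.Agent.Lib.ThOut39.Kernel
import Cfsg.Agent.Lib.ThK83.Tables
import Cfsg.Agent.Lib.ThK83.OrbData
import Cfsg.Agent.Lib.ThOut39.LabData
import Cfsg.Agent.Lib.ThOut39.CentData

/-! Evaluation of the centraliser checks. -/

set_option maxRecDepth 100000
set_option maxHeartbeats 0

namespace Cfsg.Agent.Lib.ThOut39

open Cfsg.Agent.Lib.ThK83 (tabs band forallB rangeB nth base orb0 orb1 orb2 eqLN)

theorem orb0_ok : tabs.orbsOK [0] [orb0] = true := by decide +kernel

theorem uGens_eq : eqLN2 orb1.gens uGens = true := by decide +kernel

theorem extra_ok : rangeB (fun i => tabs.same base (nth [] orb2.gens i)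
    (catW uGens (nth [] extraIdx i))) 2 0 = true ∧ orb2.gens.length = 2 := by
  constructor <;> decide +kernel

theorem uGens_fix : forallB (fun g => Nat.beq (tabs.go g 0) 0) uGens = true := by decide +kernel

theorem cent_comm : forallB (fun w => tabs.same base (w ++ sW) (sW ++ w)) centList = true := by
  decide +kernel

theorem wsS_comm : forallB (fun e => memL e.1 sPows) wsS = true := by decide +kernel

theorem sPows_ok : rangeB (fun i => eqLN (ThK83.decode (nth [] sPows i))
    (replN 5 i)) 7 0 = true := by decide +kernel

theorem backP_ok : Nat.beq (tabs.go backP p0) 0 = true ∧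
    eqSig tabs labT backP p0 wsS = true := by
  constructor <;> decide +kernel

theorem backX_ok : Nat.beq (tabs.go backX 15) 0 = true ∧
    eqSig tabs labT backX 15 (expWs uGens wsU) = true := by
  constructor <;> decide +kernel

theorem refsS_ok : forallB (fun r => band (Nat.blt r.1 17199) (Nat.beq (tabs.go r.2 r.1) 0))
    refsS = true := by decide +kernel

theorem refsU_ok : forallB (fun r => band (Nat.blt r.1 17199) (Nat.beq (tabs.go r.2 r.1) 0))
    refsU = true := by decide +kernel

theorem refsS_pow : rangeB (fun i => Nat.beq (tabs.go backP (tabs.go (nth [] sPows (i + 1)) p0))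
    (nth (0, []) refsS i).1) 6 0 = true := by decide +kernel

theorem refsU_img : rangeB (fun i => Nat.beq (tabs.go (catW uGens (nth [] refsUW i)) 15)
    (nth (0, []) refsU i).1) 2 0 = true := by decide +kernel

theorem labInv0 : labInv tabs labT uGens 0 5733 = true := by decide +kernel

theorem onlyZero0 : onlyZero tabs uGens 0 5733 = true := by decide +kernel

theorem labInv1 : labInv tabs labT uGens 5733 5733 = true := by decide +kernel

theorem onlyZero1 : onlyZero tabs uGens 5733 5733 = true := by decide +kernel

theorem labInv2 : labInv tabs labT uGens 11466 5733 = true := by decide +kernel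

theorem onlyZero2 : onlyZero tabs uGens 11466 5733 = true := by decide +kernel

theorem uniqS6 : uniqOK tabs labT (takeN 6 refsS) (nth (0, []) refsS 6).1 0 17199 = true := by
  decide +kernel

theorem uniqS7 : uniqOK tabs labT (takeN 7 refsS) (nth (0, []) refsS 7).1 0 17199 = true := by
  decide +kernel

theorem uniqS8 : uniqOK tabs labT (takeN 8 refsS) (nth (0, []) refsS 8).1 0 17199 = true := by
  decide +kernel

theorem uniqS9 : uniqOK tabs labT (takeN 9 refsS) (nth (0, []) refsS 9).1 0 17199 = true := by
  decide +kernel

theorem uniqU : uniqOK tabs labT refsU 27 0 17199 = true := by decide +kernel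

end Cfsg.Agent.Lib.ThOut39
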