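import Cfsg.Agent.Lib.ThOut39.Kernel
import Cfsg.Agent.Lib.ThK83.Tables
import Cfsg.Agent.Lib.ThOut39.LabData
import Cfsg.Agent.Lib.ThOut39.CentData
import Cfsg.Agent.Lib.ThOut39.BackData0

/-! Evaluation of the centraliser checks. -/

set_option maxRecDepth 100000
set_option maxHeartbeats 0

namespace Cfsg.Agent.Lib.ThOut39

open Cfsg.Agent.Lib.ThK83 (tabs band forallB rangeB nth eqLN)

theorem sigScan0_0 : sigScan tabs labT p0 wsS centList (nth [] backs0 0) 0 = true := by
  decide +kernel

theorem fixScan0_0 :
    fixScan tabs labT 15 (expWs uGens wsU) (nth [] backs0 0) 0 = true := by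
  decide +kernel

theorem backs_len0_0 : (nth [] backs0 0).length = 637 := by decide +kernel

theorem sigScan0_1 : sigScan tabs labT p0 wsS centList (nth [] backs0 1) 637 = true := by
  decide +kernel

theorem fixScan0_1 :
    fixScan tabs labT 15 (expWs uGens wsU) (nth [] backs0 1) 637 = true := by
  decide +kernel

theorem backs_len0_1 : (nth [] backs0 1).length = 637 := by decide +kernel

theorem sigScan0_2 : sigScan tabs labT p0 wsS centList (nth [] backs0 2) 1274 = true := by
  decide +kernel

theorem fixScan0_2 :
    fixScan tabs labT 15 (expWs uGens wsU) (nth [] backs0 2) 1274 = true := by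
  decide +kernel

theorem backs_len0_2 : (nth [] backs0 2).length = 637 := by decide +kernel

theorem sigScan0_3 : sigScan tabs labT p0 wsS centList (nth [] backs0 3) 1911 = true := by
  decide +kernel

theorem fixScan0_3 :
    fixScan tabs labT 15 (expWs uGens wsU) (nth [] backs0 3) 1911 = true := by
  decide +kernel

theorem backs_len0_3 : (nth [] backs0 3).length = 637 := by decide +kernel

theorem sigScan0_4 : sigScan tabs labT p0 wsS centList (nth [] backs0 4) 2548 = true := by
  decide +kernel

theorem fixScan0_4 :
    fixScan tabs labT 15 (expWs uGens wsU) (nth [] backs0 4) 2548 = true := by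
  decide +kernel

theorem backs_len0_4 : (nth [] backs0 4).length = 637 := by decide +kernel

theorem sigScan0_5 : sigScan tabs labT p0 wsS centList (nth [] backs0 5) 3185 = true := by
  decide +kernel

theorem fixScan0_5 :
    fixScan tabs labT 15 (expWs uGens wsU) (nth [] backs0 5) 3185 = true := by
  decide +kernel

theorem backs_len0_5 : (nth [] backs0 5).length = 637 := by decide +kernel

theorem sigScan0_6 : sigScan tabs labT p0 wsS centList (nth [] backs0 6) 3822 = true := by
  decide +kernel

theorem fixScan0_6 :
    fixScan tabs labT 15 (expWs uGens wsU) (nth [] backs0 6) 3822 = true := by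
  decide +kernel

theorem backs_len0_6 : (nth [] backs0 6).length = 637 := by decide +kernel

theorem sigScan0_7 : sigScan tabs labT p0 wsS centList (nth [] backs0 7) 4459 = true := by
  decide +kernel

theorem fixScan0_7 :
    fixScan tabs labT 15 (expWs uGens wsU) (nth [] backs0 7) 4459 = true := by
  decide +kernel

theorem backs_len0_7 : (nth [] backs0 7).length = 637 := by decide +kernel

theorem sigScan0_8 : sigScan tabs labT p0 wsS centList (nth [] backs0 8) 5096 = true := by
  decide +kernel

theorem fixScan0_8 :
    fixScan tabs labT 15 (expWs uGens wsU) (nth [] backs0 8) 5096 = true := by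
  decide +kernel

theorem backs_len0_8 : (nth [] backs0 8).length = 637 := by decide +kernel

end Cfsg.Agent.Lib.ThOut39
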