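import Cfsg.Agent.Lib.ThOut39.Kernel
import Cfsg.Agent.Lib.ThK83.Tables
import Cfsg.Agent.Lib.ThOut39.LabData
import Cfsg.Agent.Lib.ThOut39.CentData
import Cfsg.Agent.Lib.ThOut39.BackData1

/-! Evaluation of the centraliser checks. -/

set_option maxRecDepth 100000
set_option maxHeartbeats 0

namespace Cfsg.Agent.Lib.ThOut39

open Cfsg.Agent.Lib.ThK83 (tabs band forallB rangeB nth eqLN)

theorem sigScan1_0 : sigScan tabs labT p0 wsS centList (nth [] backs1 0) 5733 = true := by
  decide +kernel

theorem fixScan1_0 :
    fixScan tabs labT 15 (expWs uGens wsU) (nth [] backs1 0) 5733 = true := by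
  decide +kernel

theorem backs_len1_0 : (nth [] backs1 0).length = 637 := by decide +kernel

theorem sigScan1_1 : sigScan tabs labT p0 wsS centList (nth [] backs1 1) 6370 = true := by
  decide +kernel

theorem fixScan1_1 :
    fixScan tabs labT 15 (expWs uGens wsU) (nth [] backs1 1) 6370 = true := by
  decide +kernel

theorem backs_len1_1 : (nth [] backs1 1).length = 637 := by decide +kernel

theorem sigScan1_2 : sigScan tabs labT p0 wsS centList (nth [] backs1 2) 7007 = true := by
  decide +kernel

theorem fixScan1_2 :
    fixScan tabs labT 15 (expWs uGens wsU) (nth [] backs1 2) 7007 = true := by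
  decide +kernel

theorem backs_len1_2 : (nth [] backs1 2).length = 637 := by decide +kernel

theorem sigScan1_3 : sigScan tabs labT p0 wsS centList (nth [] backs1 3) 7644 = true := by
  decide +kernel

theorem fixScan1_3 :
    fixScan tabs labT 15 (expWs uGens wsU) (nth [] backs1 3) 7644 = true := by
  decide +kernel

theorem backs_len1_3 : (nth [] backs1 3).length = 637 := by decide +kernel

theorem sigScan1_4 : sigScan tabs labT p0 wsS centList (nth [] backs1 4) 8281 = true := by
  decide +kernel

theorem fixScan1_4 :
    fixScan tabs labT 15 (expWs uGens wsU) (nth [] backs1 4) 8281 = true := by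
  decide +kernel

theorem backs_len1_4 : (nth [] backs1 4).length = 637 := by decide +kernel

theorem sigScan1_5 : sigScan tabs labT p0 wsS centList (nth [] backs1 5) 8918 = true := by
  decide +kernel

theorem fixScan1_5 :
    fixScan tabs labT 15 (expWs uGens wsU) (nth [] backs1 5) 8918 = true := by
  decide +kernel

theorem backs_len1_5 : (nth [] backs1 5).length = 637 := by decide +kernel

theorem sigScan1_6 : sigScan tabs labT p0 wsS centList (nth [] backs1 6) 9555 = true := by
  decide +kernel

theorem fixScan1_6 :
    fixScan tabs labT 15 (expWs uGens wsU) (nth [] backs1 6) 9555 = true := by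
  decide +kernel

theorem backs_len1_6 : (nth [] backs1 6).length = 637 := by decide +kernel

theorem sigScan1_7 : sigScan tabs labT p0 wsS centList (nth [] backs1 7) 10192 = true := by
  decide +kernel

theorem fixScan1_7 :
    fixScan tabs labT 15 (expWs uGens wsU) (nth [] backs1 7) 10192 = true := by
  decide +kernel

theorem backs_len1_7 : (nth [] backs1 7).length = 637 := by decide +kernel

theorem sigScan1_8 : sigScan tabs labT p0 wsS centList (nth [] backs1 8) 10829 = true := by
  decide +kernel

theorem fixScan1_8 :
    fixScan tabs labT 15 (expWs uGens wsU) (nth [] backs1 8) 10829 = true := by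
  decide +kernel

theorem backs_len1_8 : (nth [] backs1 8).length = 637 := by decide +kernel

end Cfsg.Agent.Lib.ThOut39
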