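import Cfsg.Agent.Lib.ThOut39.Kernel
import Cfsg.Agent.Lib.ThK83.Tables
import Cfsg.Agent.Lib.ThOut39.LabData
import Cfsg.Agent.Lib.ThOut39.CentData
import Cfsg.Agent.Lib.ThOut39.BackData2

/-! Evaluation of the centraliser checks. -/

set_option maxRecDepth 100000
set_option maxHeartbeats 0

namespace Cfsg.Agent.Lib.ThOut39

open Cfsg.Agent.Lib.ThK83 (tabs band forallB rangeB nth eqLN)

theorem sigScan2_0 : sigScan tabs labT p0 wsS centList (nth [] backs2 0) 11466 = true := by
  decide +kernel

theorem fixScan2_0 :
    fixScan tabs labT 15 (expWs uGens wsU) (nth [] backs2 0) 11466 = true := by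
  decide +kernel

theorem backs_len2_0 : (nth [] backs2 0).length = 637 := by decide +kernel

theorem sigScan2_1 : sigScan tabs labT p0 wsS centList (nth [] backs2 1) 12103 = true := by
  decide +kernel

theorem fixScan2_1 :
    fixScan tabs labT 15 (expWs uGens wsU) (nth [] backs2 1) 12103 = true := by
  decide +kernel

theorem backs_len2_1 : (nth [] backs2 1).length = 637 := by decide +kernel

theorem sigScan2_2 : sigScan tabs labT p0 wsS centList (nth [] backs2 2) 12740 = true := by
  decide +kernel

theorem fixScan2_2 :
    fixScan tabs labT 15 (expWs uGens wsU) (nth [] backs2 2) 12740 = true := by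
  decide +kernel

theorem backs_len2_2 : (nth [] backs2 2).length = 637 := by decide +kernel

theorem sigScan2_3 : sigScan tabs labT p0 wsS centList (nth [] backs2 3) 13377 = true := by
  decide +kernel

theorem fixScan2_3 :
    fixScan tabs labT 15 (expWs uGens wsU) (nth [] backs2 3) 13377 = true := by
  decide +kernel

theorem backs_len2_3 : (nth [] backs2 3).length = 637 := by decide +kernel

theorem sigScan2_4 : sigScan tabs labT p0 wsS centList (nth [] backs2 4) 14014 = true := by
  decide +kernel

theorem fixScan2_4 :
    fixScan tabs labT 15 (expWs uGens wsU) (nth [] backs2 4) 14014 = true := by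
  decide +kernel

theorem backs_len2_4 : (nth [] backs2 4).length = 637 := by decide +kernel

theorem sigScan2_5 : sigScan tabs labT p0 wsS centList (nth [] backs2 5) 14651 = true := by
  decide +kernel

theorem fixScan2_5 :
    fixScan tabs labT 15 (expWs uGens wsU) (nth [] backs2 5) 14651 = true := by
  decide +kernel

theorem backs_len2_5 : (nth [] backs2 5).length = 637 := by decide +kernel

theorem sigScan2_6 : sigScan tabs labT p0 wsS centList (nth [] backs2 6) 15288 = true := by
  decide +kernel

theorem fixScan2_6 :
    fixScan tabs labT 15 (expWs uGens wsU) (nth [] backs2 6) 15288 = true := by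
  decide +kernel

theorem backs_len2_6 : (nth [] backs2 6).length = 637 := by decide +kernel

theorem sigScan2_7 : sigScan tabs labT p0 wsS centList (nth [] backs2 7) 15925 = true := by
  decide +kernel

theorem fixScan2_7 :
    fixScan tabs labT 15 (expWs uGens wsU) (nth [] backs2 7) 15925 = true := by
  decide +kernel

theorem backs_len2_7 : (nth [] backs2 7).length = 637 := by decide +kernel

theorem sigScan2_8 : sigScan tabs labT p0 wsS centList (nth [] backs2 8) 16562 = true := by
  decide +kernel

theorem fixScan2_8 :
    fixScan tabs labT 15 (expWs uGens wsU) (nth [] backs2 8) 16562 = true := by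
  decide +kernel

theorem backs_len2_8 : (nth [] backs2 8).length = 637 := by decide +kernel

end Cfsg.Agent.Lib.ThOut39
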