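import Cfsg.Agent.Lib.ThK83.Kernel

/-!
Kernel-level checkers for centralisers inside the group of words on 17199 points: labels of the
orbits of the stabiliser of the point `0`, relative labels of pairs of points, and scans.
-/

namespace Cfsg.Agent.Lib.ThOut39

open Cfsg.Agent.Lib.ThK83 (Tabs Tree hold band forallB rangeB nth eqLN memN)

/-- conditional -/
noncomputable def ite2 {α : Type} (c : Bool) (x y : α) : α :=
  Bool.rec (motive := fun _ => α) y x c

/-- negation -/
noncomputable def nay (c : Bool) : Bool := ite2 c false true

/-- some element of the list passes -/
noncomputable def existsB {α : Type} (p : α → Bool) (l : List α) : Bool :=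
  List.rec (motive := fun _ => Bool) false (fun x _ ih => ite2 (p x) true ih) l

/-- a check for the entries of a list numbered from a start -/
noncomputable def foldI {α : Type} (p : Nat → α → Bool) (l : List α) : Nat → Bool :=
  List.rec (motive := fun _ => Nat → Bool) (fun _ => true)
    (fun x _ ih i => hold i fun j => band (p j x) (ih (Nat.succ j))) l

/-- equality of lists of words -/
noncomputable def eqLN2 (a : List (List Nat)) : List (List Nat) → Bool :=
  List.rec (motive := fun _ => List (List Nat) → Bool)
    (fun b => List.rec (motive := fun _ => Bool) true (fun _ _ _ => false) b)
    (fun x _ ih b =>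
      List.rec (motive := fun _ => Bool) false (fun y ys _ => band (eqLN x y) (ih ys)) b) a

/-- the word is listed -/
noncomputable def memL (x : List Nat) (l : List (List Nat)) : Bool := existsB (eqLN x) l

/-- a number repeated -/
noncomputable def replN (x n : Nat) : List Nat :=
  Nat.rec (motive := fun _ => List Nat) [] (fun _ ih => x :: ih) n

/-- the first entries of a list -/
noncomputable def takeN {α : Type} (n : Nat) : List α → List α :=
  Nat.rec (motive := fun _ => List α → List α) (fun _ => [])
    (fun _ ih l => List.rec (motive := fun _ => List α) [] (fun x t _ => x :: ih t) l) n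

/-- the product of listed words -/
noncomputable def catW (T : List (List Nat)) (ix : List Nat) : List Nat :=
  List.rec (motive := fun _ => List Nat) [] (fun i _ ih => nth [] T i ++ ih) ix

/-- the second component replaced along a table -/
noncomputable def expWs (T : List (List Nat)) (ws : List (List Nat × Nat)) :
    List (List Nat × Nat) :=
  List.rec (motive := fun _ => List (List Nat × Nat)) [] (fun e _ ih => (catW T e.1, e.2) :: ih) ws

variable (D : Tabs) (L : Tree)

/-- the labels do not change under the listed words -/
noncomputable def labInv (gens : List (List Nat)) (lo len : Nat) : Bool :=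
  rangeB (fun p => forallB (fun g => Nat.beq (L.get (D.go g p)) (L.get p)) gens) len lo

/-- only the point `0` is fixed by all listed words -/
noncomputable def onlyZero (gens : List (List Nat)) (lo len : Nat) : Bool :=
  rangeB (fun p => ite2 (Nat.beq p 0) true
    (existsB (fun g => nay (Nat.beq (D.go g p) p)) gens)) len lo

/-- the label of the point `b` seen from the point brought to `0` by the word `r` -/
noncomputable def relLab (r : List Nat) (b : Nat) : Nat := L.get (D.go r b)

/-- the labels of the images of `q` seen from `q` agree with the listed ones -/
noncomputable def eqSig (r : List Nat) (q : Nat) (ws : List (List Nat × Nat)) : Bool :=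
  forallB (fun e => Nat.beq (relLab D L r (D.go e.1 q)) e.2) ws

/-- every `q` other than listed images of `x` has other labels; an entry is the word that brings
`q` to `0` and a number: `0`, or one more than the number of the word that brings `x` to `q` -/
noncomputable def sigScan (x : Nat) (ws : List (List Nat × Nat)) (cs : List (List Nat))
    (entries : List (List Nat × Nat)) (lo : Nat) : Bool :=
  foldI (fun q e => band (Nat.beq (D.go e.1 q) 0)
    (ite2 (eqSig D L e.1 q ws)
      (band (nay (Nat.beq e.2 0)) (Nat.beq (D.go (nth [] cs (Nat.sub e.2 1)) x) q)) true))
    entries lo

/-- among the points with the label of `x` only `x` itself has the listed labels -/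
noncomputable def fixScan (x : Nat) (ws : List (List Nat × Nat))
    (entries : List (List Nat × Nat)) (lo : Nat) : Bool :=
  foldI (fun q e => ite2 (Nat.beq (L.get q) (L.get x))
    (ite2 (Nat.beq q x) true (band (Nat.beq (D.go e.1 q) 0) (nay (eqSig D L e.1 q ws)))) true)
    entries lo

/-- `b` is the only point with its labels seen from `0` and from the listed points -/
noncomputable def uniqOK (refs : List (Nat × List Nat)) (b : Nat) (lo len : Nat) : Bool :=
  rangeB (fun p => ite2 (Nat.beq (L.get p) (L.get b))
    (ite2 (Nat.beq p b) true
      (existsB (fun r => nay (Nat.beq (relLab D L r.2 p) (relLab D L r.2 b))) refs)) true) len lo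

end Cfsg.Agent.Lib.ThOut39
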