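import Mathlib
import Cfsg.Agent.Lib.ThOut39.Kernel
import Cfsg.Agent.Lib.ThK83.Sound

/-!
Soundness of the centraliser scans, for a faithful action of the letters in which the
stabiliser of the point `0` keeps the labels.
-/

set_option autoImplicit false

namespace Cfsg.Agent.Lib.ThOut39

open Cfsg.Agent.Lib.ThK83 (Tabs Tree hold band forallB rangeB nth eqLN memN hold_eq band_eq
  forallB_iff rangeB_spec beqN_iff bltN_iff nth_eq)

theorem ite2_eq {α : Type} (c : Bool) (x y : α) : ite2 c x y = if c then x else y := by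
  cases c <;> rfl

theorem nay_iff {c : Bool} : nay c = true ↔ c = false := by cases c <;> simp [nay, ite2]

theorem nay_beq {a b : ℕ} : nay (Nat.beq a b) = true ↔ a ≠ b := by
  rw [nay_iff, ← Bool.not_eq_true, beqN_iff]

theorem existsB_iff {α : Type} {p : α → Bool} :
    ∀ {l : List α}, existsB p l = true ↔ ∃ x ∈ l, p x = true
  | [] => by simp [existsB]
  | x :: l => by
    show ite2 (p x) true (existsB p l) = true ↔ _
    rw [ite2_eq]
    cases h : p x
    · simp [h, existsB_iff (l := l)]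
    · simp [h]

theorem foldI_spec {α : Type} {p : ℕ → α → Bool} :
    ∀ {l : List α} {i : ℕ}, foldI p l i = true → ∀ k (hk : k < l.length), p (i + k) l[k] = true
  | [], _, _ => fun k hk => absurd hk (Nat.not_lt_zero k)
  | x :: l, i, h => fun k hk => by
    have h' : hold i (fun j => band (p j x) (foldI p l (Nat.succ j))) = true := h
    rw [hold_eq, band_eq, Bool.and_eq_true] at h'
    cases k with
    | zero => simpa using h'.1
    | succ k =>
      have := foldI_spec h'.2 k (Nat.lt_of_succ_lt_succ hk)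
      rw [Nat.succ_add, ← Nat.add_succ] at this
      simpa using this

variable {D : Tabs} {L : Tree} {Q : Type*} [Group Q] (R : ThK83.Rep D Q)

/-- the stabiliser of `0` keeps the labels -/
def LabStable : Prop := ∀ g : Q, R.pt g 0 = 0 → ∀ y < 17199, L.get (R.pt g y) = L.get y

/-- an element carrying `p` to `q` keeps the labels seen from them -/
theorem rel_pres (hL : LabStable (L := L) R) {k : Q} {p q y : ℕ} {rp rq : List ℕ}
    (hp : p < 17199) (hq : q < 17199) (hy : y < 17199) (hrp : D.go rp p = 0)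
    (hrq : D.go rq q = 0) (hk : R.pt k p = q) :
    relLab D L rq (R.pt k y) = relLab D L rp y := by
  have h0 : R.pt ((R.ev rp)⁻¹ * k * R.ev rq) 0 = 0 := by
    have : R.pt (R.ev rp)⁻¹ 0 = p := R.pt_inv (by rw [← R.go_eq rp p hp, hrp])
    rw [R.pt_mul, R.pt_mul, this, hk, ← R.go_eq rq q hq, hrq]
  have hy' := R.pt_lt (R.ev rp) y hy
  have h := hL _ h0 _ hy'
  have e : R.pt (R.ev rp)⁻¹ (R.pt (R.ev rp) y) = y := R.pt_inv rfl
  rw [R.pt_mul, R.pt_mul, e] at h
  rw [relLab, relLab, R.go_eq _ _ (R.pt_lt _ _ hy), R.go_eq _ _ hy]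
  exact h

/-- what commutes with a word moves an image under the word with it -/
theorem pt_comm {k : Q} {w : List ℕ} {p : ℕ} (hp : p < 17199) (hc : Commute k (R.ev w)) :
    R.pt k (D.go w p) = D.go w (R.pt k p) := by
  rw [R.go_eq _ _ hp, R.go_eq _ _ (R.pt_lt _ _ hp), ← R.pt_mul, ← R.pt_mul, hc.eq]

/-- labels of images under commuting words -/
theorem eqSig_of_comm (hL : LabStable (L := L) R) {k : Q} {x q : ℕ} {rx rq : List ℕ}
    {ws : List (List ℕ × ℕ)} (hx : x < 17199) (hq : q < 17199) (hrx : D.go rx x = 0)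
    (hrq : D.go rq q = 0) (hk : R.pt k x = q) (hx' : eqSig D L rx x ws = true)
    (hc : ∀ e ∈ ws, Commute k (R.ev e.1)) : eqSig D L rq q ws = true := by
  rw [eqSig, forallB_iff] at hx' ⊢
  intro e he
  have h := hx' e he
  rw [beqN_iff] at h ⊢
  have hlt : D.go e.1 x < 17199 := by rw [R.go_eq _ _ hx]; exact R.pt_lt _ _ hx
  rw [← h, ← rel_pres R hL hx hq hlt hrx hrq hk, pt_comm R hx (hc e he), hk]

/-- from the scan: an image of `x` under a centralising element is a listed one -/
theorem sigScan_spec (hL : LabStable (L := L) R) {x : ℕ} {ws : List (List ℕ × ℕ)}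
    {cs : List (List ℕ)} {entries : List (List ℕ × ℕ)} {lo : ℕ}
    (h : sigScan D L x ws cs entries lo = true) (hx : x < 17199) {rx : List ℕ}
    (hrx : D.go rx x = 0) (hx' : eqSig D L rx x ws = true) {k : Q}
    (hc : ∀ e ∈ ws, Commute k (R.ev e.1)) (hlo : lo ≤ R.pt k x)
    (hhi : R.pt k x < lo + entries.length) :
    ∃ m, D.go (nth [] cs m) x = R.pt k x := by
  have h' := foldI_spec h (R.pt k x - lo) (by omega)
  rw [show lo + (R.pt k x - lo) = R.pt k x by omega, band_eq, Bool.and_eq_true, beqN_iff] at h'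
  obtain ⟨h1, h2⟩ := h'
  rw [eqSig_of_comm R hL hx (R.pt_lt _ _ hx) hrx h1 rfl hx' hc, ite2_eq, if_pos rfl, band_eq,
    Bool.and_eq_true, beqN_iff] at h2
  exact ⟨_, h2.2⟩

/-- from the orbit scan: an element of the stabiliser commuting with the words fixes `x` -/
theorem fixScan_spec (hL : LabStable (L := L) R) {x : ℕ} {ws : List (List ℕ × ℕ)}
    {entries : List (List ℕ × ℕ)} {lo : ℕ} (h : fixScan D L x ws entries lo = true)
    (hx : x < 17199) {rx : List ℕ} (hrx : D.go rx x = 0) (hx' : eqSig D L rx x ws = true) {k : Q}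
    (hk0 : R.pt k 0 = 0) (hc : ∀ e ∈ ws, Commute k (R.ev e.1)) (hlo : lo ≤ R.pt k x)
    (hhi : R.pt k x < lo + entries.length) : R.pt k x = x := by
  have hq := R.pt_lt k x hx
  have h' := foldI_spec h (R.pt k x - lo) (by omega)
  rw [show lo + (R.pt k x - lo) = R.pt k x by omega, ite2_eq,
    if_pos (by rw [beqN_iff]; exact hL k hk0 x hx)] at h'
  by_contra hne
  rw [ite2_eq, if_neg (by rw [beqN_iff]; exact hne), band_eq, Bool.and_eq_true, beqN_iff,
    nay_iff] at h'
  obtain ⟨h1, h2⟩ := h'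
  rw [eqSig_of_comm R hL hx hq hrx h1 rfl hx' hc] at h2
  exact Bool.noConfusion h2

/-- from the uniqueness check: an element fixing `0` and the listed points fixes `b` -/
theorem uniqOK_spec (hL : LabStable (L := L) R) {refs : List (ℕ × List ℕ)} {b : ℕ}
    (h : ∀ p < 17199, uniqOK D L refs b p 1 = true)
    (hb : b < 17199) (hr : ∀ r ∈ refs, r.1 < 17199 ∧ D.go r.2 r.1 = 0) {k : Q}
    (hk0 : R.pt k 0 = 0) (hk : ∀ r ∈ refs, R.pt k r.1 = r.1) : R.pt k b = b := by
  have hq := R.pt_lt k b hb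
  have h' := rangeB_spec (h _ hq) (R.pt k b) le_rfl (by omega)
  rw [ite2_eq, if_pos (by rw [beqN_iff]; exact hL k hk0 b hb)] at h'
  by_contra hne
  rw [ite2_eq, if_neg (by rw [beqN_iff]; exact hne)] at h'
  obtain ⟨r, hr', hd⟩ := existsB_iff.1 h'
  rw [nay_beq] at hd
  obtain ⟨hlt, hgo⟩ := hr r hr'
  exact hd (rel_pres R hL hlt hlt hb hgo hgo (hk r hr'))

theorem rangeB_one {f : ℕ → Bool} {p : ℕ} (h : f p = true) : rangeB f 1 p = true := by
  show hold p (fun j => band (f j) true) = true
  rw [hold_eq, band_eq, Bool.and_eq_true]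
  exact ⟨h, rfl⟩

theorem uniqOK_point {refs : List (ℕ × List ℕ)} {b lo len : ℕ}
    (h : uniqOK D L refs b lo len = true) {p : ℕ} (h1 : lo ≤ p) (h2 : p < lo + len) :
    uniqOK D L refs b p 1 = true := by
  have := rangeB_spec h p h1 h2
  exact rangeB_one this

/-- invariance of the labels under a generated group -/
theorem lab_closure [Finite Q] {gens : List (List ℕ)}
    (h : ∀ p < 17199, ∀ g ∈ gens, L.get (D.go g p) = L.get p) {g : Q}
    (hg : g ∈ Subgroup.closure {x | ∃ w ∈ gens, x = R.ev w}) :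
    ∀ y < 17199, L.get (R.pt g y) = L.get y := by
  rw [← Subgroup.mem_toSubmonoid, Subgroup.closure_toSubmonoid_of_finite] at hg
  induction hg using Submonoid.closure_induction with
  | mem x hx =>
    obtain ⟨w, hw, rfl⟩ := hx
    intro y hy
    rw [← R.go_eq _ _ hy]
    exact h y hy w hw
  | one => intro y _; rw [R.pt_one]
  | mul x y _ _ hx hy => intro p hp; rw [R.pt_mul, hy _ (R.pt_lt _ _ hp), hx p hp]

/-- what commutes with all words of a stabiliser with one fixed point fixes that point -/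
theorem fix_zero_of_comm {gens : List (List ℕ)} {k : Q}
    (h : ∀ p < 17199, p ≠ 0 → ∃ g ∈ gens, D.go g p ≠ p)
    (hfix : ∀ g ∈ gens, D.go g 0 = 0) (hc : ∀ g ∈ gens, Commute k (R.ev g)) :
    R.pt k 0 = 0 := by
  by_contra hne
  obtain ⟨g, hg, hmov⟩ := h _ (R.pt_lt k 0 (by omega)) hne
  refine hmov ?_
  rw [← pt_comm R (by omega : 0 < 17199) (hc g hg), hfix g hg]

end Cfsg.Agent.Lib.ThOut39
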