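import Cfsg.Agent.Lib.ThK83.Kbar
import Cfsg.Agent.Lib.ThOut39.Sound
import Cfsg.Agent.Lib.ThOut39.Check
import Cfsg.Agent.Lib.ThOut39.Scan0
import Cfsg.Agent.Lib.ThOut39.Scan1
import Cfsg.Agent.Lib.ThOut39.Scan2

/-!
Inside `Kbar`: the stabiliser of the point `0` is generated by `uGens` and has trivial
centraliser; the centraliser of `s` consists of the listed `s ^ i * l`.
-/

set_option autoImplicit false

namespace Cfsg.Agent.Lib.ThOut39

open Cfsg.Agent.Lib.ThK83 (Kbar rep tabs band forallB rangeB nth base orb0 orb1 orb2 hold_eq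
  band_eq forallB_iff rangeB_spec beqN_iff bltN_iff nth_eq eqLN_iff base_lt baseInj card_Kbar)

theorem eqLN2_eq : ∀ {a b : List (List ℕ)}, eqLN2 a b = true → a = b
  | [], [], _ => rfl
  | [], _ :: _, h => by simp [eqLN2] at h
  | _ :: _, [], h => by simp [eqLN2] at h
  | x :: a, y :: b, h => by
    have h' : band (ThK83.eqLN x y) (eqLN2 a b) = true := h
    rw [band_eq, Bool.and_eq_true, eqLN_iff] at h'
    rw [h'.1, eqLN2_eq h'.2]

theorem mem_of_memL {x : List ℕ} {l : List (List ℕ)} (h : memL x l = true) : x ∈ l := by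
  obtain ⟨y, hy, e⟩ := existsB_iff.1 h
  rwa [eqLN_iff.1 e]

theorem ev_catW (T : List (List ℕ)) : ∀ ix : List ℕ,
    rep.ev (catW T ix) = (ix.map fun i => rep.ev (nth [] T i)).prod
  | [] => rfl
  | i :: ix => by
    show rep.ev (nth [] T i ++ catW T ix) = _
    rw [ThK83.Rep.ev_append, ev_catW T ix, List.map_cons, List.prod_cons]

theorem takeN_spec {α : Type} {d r : α} : ∀ {n : ℕ} {l : List α}, r ∈ takeN n l →
    ∃ i < n, r = nth d l i ∧ r ∈ l
  | 0, _, h => by simp [takeN] at h
  | _ + 1, [], h => by simp [takeN] at h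
  | n + 1, x :: l, h => by
    have h' : r ∈ x :: takeN n l := h
    rcases List.mem_cons.1 h' with rfl | h'
    · exact ⟨0, Nat.succ_pos _, rfl, List.mem_cons_self ..⟩
    · obtain ⟨i, hi, e, hm⟩ := takeN_spec h'
      exact ⟨i + 1, Nat.succ_lt_succ hi, e, List.mem_cons_of_mem _ hm⟩

theorem mem_expWs {T : List (List ℕ)} : ∀ {ws : List (List ℕ × ℕ)} {e : List ℕ × ℕ},
    e ∈ expWs T ws → ∃ ix, e.1 = catW T ix
  | [], _, h => by simp [expWs] at h
  | w :: ws, e, h => by
    have h' : e ∈ (catW T w.1, w.2) :: expWs T ws := h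
    rcases List.mem_cons.1 h' with rfl | h'
    · exact ⟨_, rfl⟩
    · exact mem_expWs h'

/-- the subgroup generated by `uGens` -/
noncomputable def U : Subgroup Kbar := Subgroup.closure {x | ∃ w ∈ uGens, x = rep.ev w}

theorem uGen_mem {w : List ℕ} (h : w ∈ uGens) : rep.ev w ∈ U :=
  Subgroup.subset_closure ⟨w, h, rfl⟩

theorem nth_uGen_mem (i : ℕ) : rep.ev (nth [] uGens i) ∈ U := by
  rw [nth_eq]
  by_cases h : i < uGens.length
  · rw [List.getD_eq_getElem _ _ h]; exact uGen_mem (List.getElem_mem h)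
  · rw [List.getD_eq_default _ _ (not_lt.1 h), ThK83.Rep.ev_nil]; exact one_mem _

theorem catW_mem (ix : List ℕ) : rep.ev (catW uGens ix) ∈ U := by
  rw [ev_catW]
  exact U.list_prod_mem fun x hx => by
    obtain ⟨i, -, rfl⟩ := List.mem_map.1 hx
    exact nth_uGen_mem i

theorem uGen_fix {w : List ℕ} (hw : w ∈ uGens) : tabs.go w 0 = 0 :=
  beqN_iff.1 (forallB_iff.1 uGens_fix w hw)

theorem U_le : U ≤ rep.fixList [0] := by
  refine (Subgroup.closure_le _).2 ?_
  rintro _ ⟨w, hw, rfl⟩ p hp
  rw [List.mem_singleton.1 hp, ← rep.go_eq w 0 (by norm_num), uGen_fix hw]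

theorem card_U_ge : 36864 ≤ Nat.card U := by
  have hok : tabs.orbsOK base [orb1, orb2] = true := (ThK83.Rep.orbsOK_cons base_lt ThK83.orbs_ok).1
  have h := rep.orbCard_mul_le base_lt [orb1, orb2] hok U ?_
  · rw [show ThK83.orbCard [orb1, orb2] = 36864 by decide +kernel] at h
    exact (Nat.le_mul_of_pos_right _ Nat.card_pos).trans h
  · rw [ThK83.Rep.wgroup, Subgroup.closure_le]
    rintro _ ⟨u, hu, rfl⟩
    simp only [ThK83.Rep.orbGens, List.map_cons, List.map_nil, List.flatten_cons,
      List.flatten_nil, List.append_nil, List.mem_append, Set.mem_setOf_eq] at hu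
    rcases hu with hu | hu
    · rw [eqLN2_eq uGens_eq] at hu
      exact uGen_mem hu
    · obtain ⟨i, hi, rfl⟩ := List.getElem_of_mem hu
      obtain ⟨h1, h2⟩ := extra_ok
      have h' := rangeB_spec h1 i (Nat.zero_le _) (by omega)
      rw [nth_eq, List.getD_eq_getElem _ _ hi] at h'
      rw [SetLike.mem_coe, rep.eq_of_same base_lt baseInj h']
      exact catW_mem _

theorem fixZero_eq : rep.fixList [0] = U := by
  have h := rep.orbCard_mul_le (base := [0]) (by simp) [orb0] orb0_ok ⊤ le_top
  rw [top_inf_eq, Subgroup.card_top, card_Kbar,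
    show ThK83.orbCard [orb0] = 17199 by decide +kernel] at h
  exact (Subgroup.eq_of_le_of_card_ge U_le (by have := card_U_ge; omega)).symm

theorem mem_U {g : Kbar} (h : rep.pt g 0 = 0) : g ∈ U :=
  fixZero_eq ▸ fun p hp => by rw [List.mem_singleton.1 hp, h]

theorem labInv_all : ∀ p < 17199, ∀ g ∈ uGens, labT.get (tabs.go g p) = labT.get p := by
  intro p hp g hg
  have key : forallB (fun g => Nat.beq (labT.get (tabs.go g p)) (labT.get p)) uGens = true := by
    rcases lt_or_ge p 5733 with h | h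
    · exact rangeB_spec labInv0 p (Nat.zero_le _) (by omega)
    · rcases lt_or_ge p 11466 with h' | h'
      · exact rangeB_spec labInv1 p h (by omega)
      · exact rangeB_spec labInv2 p h' (by omega)
  exact beqN_iff.1 (forallB_iff.1 key g hg)

theorem labStable : LabStable (L := labT) rep := fun _ hg y hy =>
  lab_closure rep labInv_all (mem_U hg) y hy

theorem onlyZero_all (p : ℕ) (hp : p < 17199) (h0 : p ≠ 0) :
    ∃ g ∈ uGens, tabs.go g p ≠ p := by
  have key : ite2 (Nat.beq p 0) true (existsB (fun g => nay (Nat.beq (tabs.go g p) p)) uGens)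
      = true := by
    rcases lt_or_ge p 5733 with h | h
    · exact rangeB_spec onlyZero0 p (Nat.zero_le _) (by omega)
    · rcases lt_or_ge p 11466 with h' | h'
      · exact rangeB_spec onlyZero1 p h (by omega)
      · exact rangeB_spec onlyZero2 p h' (by omega)
  rw [ite2_eq, if_neg (by rw [beqN_iff]; exact h0)] at key
  obtain ⟨g, hg, h⟩ := existsB_iff.1 key
  exact ⟨g, hg, nay_beq.1 h⟩

/-- conjugation keeps `U` only for elements of `U` -/
theorem mem_U_of_conj {k : Kbar} (h : ∀ g ∈ uGens, k * rep.ev g * k⁻¹ ∈ U) : k ∈ U := by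
  refine mem_U ?_
  by_contra hne
  obtain ⟨g, hg, hmov⟩ := onlyZero_all _ (rep.pt_lt k 0 (by norm_num)) hne
  have hfix := U_le (h g hg) 0 (List.mem_singleton_self 0)
  rw [rep.pt_mul, rep.pt_mul] at hfix
  refine hmov ?_
  rw [rep.go_eq _ _ (rep.pt_lt k 0 (by norm_num))]
  have := congrArg (rep.pt k) hfix
  rwa [← rep.pt_mul, inv_mul_cancel, rep.pt_one] at this

/-- what commutes with the generators of the stabiliser of `0` is trivial -/
theorem cent_U {k : Kbar} (hc : ∀ g ∈ uGens, Commute k (rep.ev g)) : k = 1 := by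
  have h0 : rep.pt k 0 = 0 :=
    fix_zero_of_comm rep onlyZero_all (fun g hg => uGen_fix hg) hc
  have hcat : ∀ ix, Commute k (rep.ev (catW uGens ix)) := fun ix => by
    rw [ev_catW]
    refine Commute.list_prod_right _ _ fun x hx => ?_
    obtain ⟨i, -, rfl⟩ := List.mem_map.1 hx
    rw [nth_eq]
    by_cases h : i < uGens.length
    · rw [List.getD_eq_getElem _ _ h]; exact hc _ (List.getElem_mem h)
    · rw [List.getD_eq_default _ _ (not_lt.1 h), ThK83.Rep.ev_nil]; exact Commute.one_right k
  have hx := backX_ok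
  rw [beqN_iff] at hx
  have hcs : ∀ e ∈ expWs uGens wsU, Commute k (rep.ev e.1) := fun e he => by
    obtain ⟨ix, hix⟩ := mem_expWs he
    rw [hix]; exact hcat ix
  have h15 : rep.pt k 15 = 15 := by
    have hlt := rep.pt_lt k 15 (by norm_num)
    have go := fun {l : List (List ℕ × ℕ)} {lo : ℕ}
      (h : fixScan tabs labT 15 (expWs uGens wsU) l lo = true) (h1 : lo ≤ rep.pt k 15)
      (h2 : rep.pt k 15 < lo + l.length) =>
      fixScan_spec rep labStable h (by norm_num) hx.1 hx.2 h0 hcs h1 h2
    obtain ⟨j, hj, hj1, hj2⟩ : ∃ j, j < 27 ∧ 637 * j ≤ rep.pt k 15 ∧ rep.pt k 15 < 637 * j + 637 :=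
      ⟨rep.pt k 15 / 637, by omega, by omega, by omega⟩
    interval_cases j
    exacts [go fixScan0_0 hj1 (by rw [backs_len0_0]; exact hj2),
      go fixScan0_1 hj1 (by rw [backs_len0_1]; exact hj2),
      go fixScan0_2 hj1 (by rw [backs_len0_2]; exact hj2),
      go fixScan0_3 hj1 (by rw [backs_len0_3]; exact hj2),
      go fixScan0_4 hj1 (by rw [backs_len0_4]; exact hj2),
      go fixScan0_5 hj1 (by rw [backs_len0_5]; exact hj2),
      go fixScan0_6 hj1 (by rw [backs_len0_6]; exact hj2),
      go fixScan0_7 hj1 (by rw [backs_len0_7]; exact hj2),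
      go fixScan0_8 hj1 (by rw [backs_len0_8]; exact hj2),
      go fixScan1_0 hj1 (by rw [backs_len1_0]; exact hj2),
      go fixScan1_1 hj1 (by rw [backs_len1_1]; exact hj2),
      go fixScan1_2 hj1 (by rw [backs_len1_2]; exact hj2),
      go fixScan1_3 hj1 (by rw [backs_len1_3]; exact hj2),
      go fixScan1_4 hj1 (by rw [backs_len1_4]; exact hj2),
      go fixScan1_5 hj1 (by rw [backs_len1_5]; exact hj2),
      go fixScan1_6 hj1 (by rw [backs_len1_6]; exact hj2),
      go fixScan1_7 hj1 (by rw [backs_len1_7]; exact hj2),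
      go fixScan1_8 hj1 (by rw [backs_len1_8]; exact hj2),
      go fixScan2_0 hj1 (by rw [backs_len2_0]; exact hj2),
      go fixScan2_1 hj1 (by rw [backs_len2_1]; exact hj2),
      go fixScan2_2 hj1 (by rw [backs_len2_2]; exact hj2),
      go fixScan2_3 hj1 (by rw [backs_len2_3]; exact hj2),
      go fixScan2_4 hj1 (by rw [backs_len2_4]; exact hj2),
      go fixScan2_5 hj1 (by rw [backs_len2_5]; exact hj2),
      go fixScan2_6 hj1 (by rw [backs_len2_6]; exact hj2),
      go fixScan2_7 hj1 (by rw [backs_len2_7]; exact hj2),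
      go fixScan2_8 hj1 (by rw [backs_len2_8]; exact hj2)]
  have hr : ∀ r ∈ refsU, r.1 < 17199 ∧ tabs.go r.2 r.1 = 0 := fun r hr => by
    have := forallB_iff.1 refsU_ok r hr
    rw [band_eq, Bool.and_eq_true, beqN_iff, bltN_iff] at this
    exact this
  have hk : ∀ r ∈ refsU, rep.pt k r.1 = r.1 := by
    intro r hr'
    obtain ⟨i, hi, rfl⟩ := List.getElem_of_mem hr'
    have hi2 : i < 2 := hi
    have h := rangeB_spec refsU_img i (Nat.zero_le _) (by omega)
    rw [beqN_iff, nth_eq _ refsU, List.getD_eq_getElem _ _ hi] at h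
    rw [← h, pt_comm rep (by norm_num : (15 : ℕ) < 17199) (hcat _), h15]
  have h27 : rep.pt k 27 = 27 :=
    uniqOK_spec rep labStable (fun p hp => uniqOK_point uniqU (Nat.zero_le p) (by omega))
      (by norm_num) hr h0 hk
  refine baseInj k ?_
  show [rep.pt k 0, rep.pt k 15, rep.pt k 27] = [0, 15, 27]
  rw [h0, h15, h27]

theorem cent_mem {k : Kbar} (hc : Commute k (rep.ev sW)) {m : ℕ}
    (hm : tabs.go (nth [] centList m) p0 = rep.pt k p0) : k = rep.ev (nth [] centList m) := by
  have hcw : Commute (rep.ev (nth [] centList m)) (rep.ev sW) := by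
    rw [nth_eq]
    by_cases h : m < centList.length
    · rw [List.getD_eq_getElem _ _ h]
      have := rep.eq_of_same base_lt baseInj (forallB_iff.1 cent_comm _ (List.getElem_mem h))
      rwa [ThK83.Rep.ev_append, ThK83.Rep.ev_append] at this
    · rw [List.getD_eq_default _ _ (not_lt.1 h), ThK83.Rep.ev_nil]; exact Commute.one_left _
  set k2 := k * (rep.ev (nth [] centList m))⁻¹ with hk2
  have hc2 : Commute k2 (rep.ev sW) := hc.mul_left hcw.inv_left
  have hp : (p0 : ℕ) < 17199 := by decide
  have hfix : rep.pt k2 p0 = p0 := by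
    rw [hk2, rep.pt_mul]
    refine rep.pt_inv ?_
    rw [← rep.go_eq _ _ hp, hm]
  have hb := backP_ok
  rw [beqN_iff] at hb
  set R := rep.ev backP with hR
  set k0 := R⁻¹ * k2 * R with hk0
  have hR0 : rep.pt R⁻¹ 0 = p0 := rep.pt_inv (by rw [hR, ← rep.go_eq _ _ hp]; exact hb.1)
  have h0 : rep.pt k0 0 = 0 := by
    rw [hk0, rep.pt_mul, rep.pt_mul, hR0, hfix, hR, ← rep.go_eq _ _ hp, hb.1]
  have hr : ∀ r ∈ refsS, r.1 < 17199 ∧ tabs.go r.2 r.1 = 0 := fun r hr => by
    have := forallB_iff.1 refsS_ok r hr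
    rw [band_eq, Bool.and_eq_true, beqN_iff, bltN_iff] at this
    exact this
  have hpow : ∀ i < 6, rep.pt k0 (nth (0, []) refsS i).1 = (nth (0, []) refsS i).1 := by
    intro i hi
    have h := rangeB_spec refsS_pow i (Nat.zero_le _) (by omega)
    have hd := eqLN_iff.1 (rangeB_spec sPows_ok (i + 1) (Nat.zero_le _) (by omega))
    have hcp : Commute k2 (rep.ev (nth [] sPows (i + 1))) := by
      rw [ThK83.Rep.ev, hd]
      refine Commute.list_prod_right _ _ fun x hx => ?_
      obtain ⟨l, hl, rfl⟩ := List.mem_map.1 hx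
      have hl5 : l = 5 := by
        clear hd h
        generalize i + 1 = n at hl
        induction n with
        | zero => simp [replN] at hl
        | succ n ih =>
          have : l ∈ 5 :: replN 5 n := hl
          rcases List.mem_cons.1 this with h | h
          · exact h
          · exact ih h
      have e : rep.ev sW = rep.f l := by
        rw [hl5, ThK83.Rep.ev, show ThK83.decode sW = [5] by decide +kernel]; simp
      rwa [← e]
    have hq : tabs.go (nth [] sPows (i + 1)) p0 < 17199 := by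
      rw [rep.go_eq _ _ hp]; exact rep.pt_lt _ _ hp
    have e1 : rep.pt k2 (tabs.go (nth [] sPows (i + 1)) p0) =
        tabs.go (nth [] sPows (i + 1)) p0 := by rw [pt_comm rep hp hcp, hfix]
    rw [beqN_iff, rep.go_eq backP _ hq, ← hR] at h
    rw [hk0, ← h, rep.pt_mul, rep.pt_mul, ← rep.pt_mul R, mul_inv_cancel, rep.pt_one, e1]
  have hlen : refsS.length = 10 := rfl
  have step : ∀ j < 10, rep.pt k0 (nth (0, []) refsS j).1 = (nth (0, []) refsS j).1 := by
    intro j
    induction j using Nat.strongRecOn with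
    | _ j ih =>
      intro hj
      rcases lt_or_ge j 6 with h6 | h6
      · exact hpow j h6
      have hmem : ∀ r ∈ takeN j refsS, ∃ i < j, r = nth (0, []) refsS i ∧ r ∈ refsS :=
        fun r hr => takeN_spec hr
      have hu : uniqOK tabs labT (takeN j refsS) (nth (0, []) refsS j).1 0 17199 = true := by
        interval_cases j
        exacts [uniqS6, uniqS7, uniqS8, uniqS9]
      have hb' : (nth (0, []) refsS j).1 < 17199 := by
        rw [nth_eq, List.getD_eq_getElem _ _ (by omega)]
        exact (hr _ (List.getElem_mem _)).1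
      exact uniqOK_spec rep labStable (fun p hp => uniqOK_point hu (Nat.zero_le p) (by omega)) hb'
        (fun r hr' => by obtain ⟨i, -, -, hi⟩ := hmem r hr'; exact hr r hi) h0
        (fun r hr' => by obtain ⟨i, hij, rfl, -⟩ := hmem r hr'; exact ih i hij (by omega))
  have h15 : rep.pt k0 15 = 15 := step 8 (by norm_num)
  have h27 : rep.pt k0 27 = 27 := step 9 (by norm_num)
  have hone : k0 = 1 := baseInj k0 (by
    show [rep.pt k0 0, rep.pt k0 15, rep.pt k0 27] = [0, 15, 27]
    rw [h0, h15, h27])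
  have : k2 = 1 := by
    have : k2 = R * k0 * R⁻¹ := by rw [hk0]; group
    rw [this, hone]; group
  rwa [hk2, mul_inv_eq_one] at this

/-- the centraliser of `s` -/
theorem cent_s {k : Kbar} (hc : Commute k (rep.ev sW)) :
    k = 1 ∨ ∃ w ∈ centList, k = rep.ev w := by
  have hp : (p0 : ℕ) < 17199 := by decide
  have hb := backP_ok
  rw [beqN_iff] at hb
  have hcs : ∀ e ∈ wsS, Commute k (rep.ev e.1) := by
    intro e he
    obtain ⟨i, hi, hie⟩ := List.getElem_of_mem (mem_of_memL (forallB_iff.1 wsS_comm e he))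
    have hi7 : i < 7 := hi
    have hd := eqLN_iff.1 (rangeB_spec sPows_ok i (Nat.zero_le _) (by omega))
    rw [nth_eq, List.getD_eq_getElem _ _ hi, hie] at hd
    rw [ThK83.Rep.ev, hd]
    refine Commute.list_prod_right _ _ fun x hx => ?_
    obtain ⟨l, hl, rfl⟩ := List.mem_map.1 hx
    have hl5 : l = 5 := by
      clear hd hi hi7 hie
      generalize i = n at hl
      induction n with
      | zero => simp [replN] at hl
      | succ n ih =>
        have : l ∈ 5 :: replN 5 n := hl
        rcases List.mem_cons.1 this with h | h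
        · exact h
        · exact ih h
    have e' : rep.ev sW = rep.f l := by
      rw [hl5, ThK83.Rep.ev, show ThK83.decode sW = [5] by decide +kernel]; simp
    rwa [← e']
  have hlt := rep.pt_lt k p0 hp
  have go := fun {l : List (List ℕ × ℕ)} {lo : ℕ}
    (h : sigScan tabs labT p0 wsS centList l lo = true) (h1 : lo ≤ rep.pt k p0)
    (h2 : rep.pt k p0 < lo + l.length) =>
    sigScan_spec rep labStable h hp hb.1 hb.2 hcs h1 h2
  obtain ⟨m, hm⟩ : ∃ m, tabs.go (nth [] centList m) p0 = rep.pt k p0 := by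
    obtain ⟨j, hj, hj1, hj2⟩ : ∃ j, j < 27 ∧ 637 * j ≤ rep.pt k p0 ∧ rep.pt k p0 < 637 * j + 637 :=
      ⟨rep.pt k p0 / 637, by omega, by omega, by omega⟩
    interval_cases j
    exacts [go sigScan0_0 hj1 (by rw [backs_len0_0]; exact hj2),
      go sigScan0_1 hj1 (by rw [backs_len0_1]; exact hj2),
      go sigScan0_2 hj1 (by rw [backs_len0_2]; exact hj2),
      go sigScan0_3 hj1 (by rw [backs_len0_3]; exact hj2),
      go sigScan0_4 hj1 (by rw [backs_len0_4]; exact hj2),
      go sigScan0_5 hj1 (by rw [backs_len0_5]; exact hj2),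
      go sigScan0_6 hj1 (by rw [backs_len0_6]; exact hj2),
      go sigScan0_7 hj1 (by rw [backs_len0_7]; exact hj2),
      go sigScan0_8 hj1 (by rw [backs_len0_8]; exact hj2),
      go sigScan1_0 hj1 (by rw [backs_len1_0]; exact hj2),
      go sigScan1_1 hj1 (by rw [backs_len1_1]; exact hj2),
      go sigScan1_2 hj1 (by rw [backs_len1_2]; exact hj2),
      go sigScan1_3 hj1 (by rw [backs_len1_3]; exact hj2),
      go sigScan1_4 hj1 (by rw [backs_len1_4]; exact hj2),
      go sigScan1_5 hj1 (by rw [backs_len1_5]; exact hj2),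
      go sigScan1_6 hj1 (by rw [backs_len1_6]; exact hj2),
      go sigScan1_7 hj1 (by rw [backs_len1_7]; exact hj2),
      go sigScan1_8 hj1 (by rw [backs_len1_8]; exact hj2),
      go sigScan2_0 hj1 (by rw [backs_len2_0]; exact hj2),
      go sigScan2_1 hj1 (by rw [backs_len2_1]; exact hj2),
      go sigScan2_2 hj1 (by rw [backs_len2_2]; exact hj2),
      go sigScan2_3 hj1 (by rw [backs_len2_3]; exact hj2),
      go sigScan2_4 hj1 (by rw [backs_len2_4]; exact hj2),
      go sigScan2_5 hj1 (by rw [backs_len2_5]; exact hj2),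
      go sigScan2_6 hj1 (by rw [backs_len2_6]; exact hj2),
      go sigScan2_7 hj1 (by rw [backs_len2_7]; exact hj2),
      go sigScan2_8 hj1 (by rw [backs_len2_8]; exact hj2)]
  have hk := cent_mem hc hm
  rw [nth_eq] at hk
  by_cases h : m < centList.length
  · exact Or.inr ⟨_, List.getElem_mem h, by rwa [List.getD_eq_getElem _ _ h] at hk⟩
  · exact Or.inl (by rwa [List.getD_eq_default _ _ (not_lt.1 h), ThK83.Rep.ev_nil] at hk)

end Cfsg.Agent.Lib.ThOut39
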