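import Cfsg.Agent.Lib.ThK83.Kbar
import Cfsg.Agent.Lib.ThOut39.AutCheck
import Cfsg.Agent.Lib.ThOut39.Sound

/-!
The action of `Kbar` on 819 points separates the two kinds of elements of order seven.
-/

set_option autoImplicit false

namespace Cfsg.Agent.Lib.ThOut39

open Cfsg.Agent.Lib.ThK83 (Kbar rep band forallB rangeB nth hold_eq band_eq rangeB_spec beqN_iff
  bltN_iff relW invL invL_spec decode)

theorem qtabs_spec {l p : ℕ} (hl : l < 9) (hp : p < 819) :
    qtabs.act l p < 819 ∧ qtabs.act (invL l) (qtabs.act l p) = p := by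
  have h := rangeB_spec (rangeB_spec q_tables l (Nat.zero_le _) (by omega)) p (Nat.zero_le _)
    (by omega)
  rw [hold_eq, band_eq, Bool.and_eq_true, beqN_iff, bltN_iff] at h
  exact h

/-- one letter as a permutation of the 819 points -/
noncomputable def qletter (l : ℕ) : Equiv.Perm (Fin 819) :=
  if hl : l < 9 then
    { toFun := fun p => ⟨qtabs.act l p, (qtabs_spec hl p.2).1⟩
      invFun := fun p => ⟨qtabs.act (invL l) p, (qtabs_spec (invL_spec l hl).1 p.2).1⟩
      left_inv := fun p => Fin.ext (qtabs_spec hl p.2).2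
      right_inv := fun p => Fin.ext (by
        have := (qtabs_spec (invL_spec l hl).1 p.2).2
        rwa [(invL_spec l hl).2] at this) }
  else 1

theorem qletter_apply {l : ℕ} (hl : l < 9) (p : Fin 819) : (qletter l p : ℕ) = qtabs.act l p := by
  rw [qletter, dif_pos hl]; rfl

/-- follow letters -/
noncomputable def qrun (w : List ℕ) : ℕ → ℕ := w.foldl (fun g l => qtabs.act l ∘ g) id

theorem qinv {l : ℕ} (hl : l < 9) : qletter (invL l) = (qletter l)⁻¹ := by
  refine eq_inv_of_mul_eq_one_left (Equiv.ext fun p => Fin.ext ?_)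
  rw [Equiv.Perm.mul_apply, qletter_apply (invL_spec l hl).1, qletter_apply hl]
  exact (qtabs_spec hl p.2).2

/-- the letters as elements acting from the right -/
noncomputable def qf (l : ℕ) : Equiv.Perm (Fin 819) := (qletter l)⁻¹

/-- the action from the right -/
noncomputable def qpt (g : Equiv.Perm (Fin 819)) (p : Fin 819) : Fin 819 := g⁻¹ p

theorem qpt_mul (a b : Equiv.Perm (Fin 819)) (p : Fin 819) : qpt (a * b) p = qpt b (qpt a p) := by
  simp [qpt]

/-- follow a list of letters -/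
noncomputable def runL (w : List ℕ) (p : ℕ) : ℕ :=
  List.rec (motive := fun _ => ℕ → ℕ) (fun p => p) (fun l _ ih p => ih (qtabs.act l p)) w p

theorem runL_eq : ∀ (w : List ℕ), (∀ l ∈ w, l < 9) → ∀ p : Fin 819,
    (qpt ((w.map qf).prod) p : ℕ) = runL w p
  | [], _, p => rfl
  | l :: w, h, p => by
    have hl : l < 9 := h l (by simp)
    rw [List.map_cons, List.prod_cons, qpt_mul]
    have e : (qpt (qf l) p : ℕ) = qtabs.act l p := by
      rw [qpt, qf, inv_inv, qletter_apply hl]
    rw [runL_eq w (fun x hx => h x (by simp [hx])), e]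
    rfl

theorem qrels : ThK83.forallB (fun w => rangeB (fun p => Nat.beq (runL w p) p) 819 0) relW =
    true := by decide +kernel

theorem qkVal {l : ℕ} (hl : l < 9) :
    ThK83.kVal (qf 0) (qf 1) (qf 2) (qf 3) (qf 4) (qf 5) (qf 7) l = qf l := by
  interval_cases l
  iterate 6 rfl
  · show (qf 5)⁻¹ = qf 6
    rw [qf, qf, show (6 : ℕ) = invL 5 from rfl, qinv (by decide)]
  · rfl
  · show (qf 7)⁻¹ = qf 8
    rw [qf, qf, show (8 : ℕ) = invL 7 from rfl, qinv (by decide)]

theorem kRel_q : ThK83.KRel (qf 0) (qf 1) (qf 2) (qf 3) (qf 4) (qf 5) (qf 7) := by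
  intro w hw
  rw [List.map_congr_left fun l hl => qkVal (ThK83.relW_lt w hw l hl)]
  refine inv_inj.1 (Equiv.ext fun p => Fin.ext ?_)
  have h := rangeB_spec (ThK83.forallB_iff.1 qrels w hw) p (Nat.zero_le _) (by omega)
  rw [beqN_iff] at h
  rw [inv_one, Equiv.Perm.one_apply]
  exact (runL_eq w (fun l hl => ThK83.relW_lt w hw l hl) p).trans h

/-- the homomorphism to the 819 points -/
noncomputable def qhom : Kbar →* Equiv.Perm (Fin 819) := (ThK83.exists_hom kRel_q).choose

theorem qhom_f {l : ℕ} (hl : l < 9) : qhom (rep.f l) = qf l :=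
  ((ThK83.exists_hom kRel_q).choose_spec.1 l hl).trans (qkVal hl)

/-- the element fixes one of the 819 points -/
def FixSome (y : Kbar) : Prop := ∃ p : Fin 819, qpt (qhom y) p = p

theorem fixSome_conj {y : Kbar} (g : Kbar) (h : FixSome y) : FixSome (g⁻¹ * y * g) := by
  obtain ⟨p, hp⟩ := h
  refine ⟨qpt (qhom g) p, ?_⟩
  have e : g * (g⁻¹ * y * g) = y * g := by group
  rw [← qpt_mul, ← map_mul, e, map_mul, qpt_mul, hp]

theorem fixSome_pow {y : Kbar} (h : FixSome y) (n : ℕ) : FixSome (y ^ n) := by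
  obtain ⟨p, hp⟩ := h
  refine ⟨p, ?_⟩
  induction n with
  | zero => simp [qpt]
  | succ n ih => rw [pow_succ, map_mul, qpt_mul, ih, hp]

theorem qgoC_eq : ∀ (fuel w : ℕ) (p : Fin 819),
    qtabs.goC fuel w p = (qpt ((((ThK83.decodeC fuel w)).map qf).prod) p : ℕ)
  | 0, _, p => by simp [ThK83.Tabs.goC, ThK83.decodeC, qpt]
  | fuel + 1, 0, p => by simp [ThK83.Tabs.goC, ThK83.decodeC, qpt]
  | fuel + 1, w + 1, p => by
    show ThK83.hold (qtabs.act (ThK83.clipL (Nat.sub (Nat.land (w + 1) 15) 1)) p) (fun q =>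
        ThK83.hold (Nat.shiftRight (w + 1) 4) fun v => qtabs.goC fuel v q) =
      (qpt (((ThK83.clipL (Nat.sub (Nat.land (w + 1) 15) 1) ::
        ThK83.decodeC fuel (Nat.shiftRight (w + 1) 4)).map qf).prod) p : ℕ)
    have hl := ThK83.clipL_lt (Nat.sub (Nat.land (w + 1) 15) 1)
    rw [hold_eq, hold_eq, List.map_cons, List.prod_cons, qpt_mul, ← qgoC_eq fuel _ _]
    congr 1
    rw [qpt, qf, inv_inv, qletter_apply hl]

theorem qgo_eq : ∀ (u : List ℕ) (p : Fin 819), qtabs.go u p = (qpt (qhom (rep.ev u)) p : ℕ)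
  | [], p => by simp [ThK83.Tabs.go, ThK83.Rep.ev_nil, qpt]
  | w :: u, p => by
    show ThK83.hold (qtabs.goC 64 w p) (qtabs.go u) = _
    rw [hold_eq, qgoC_eq 64 w p, qgo_eq u]
    congr 1
    rw [← qpt_mul]
    congr 1
    rw [show w :: u = [w] ++ u from rfl, ThK83.Rep.ev_append, map_mul]
    congr 1
    rw [ThK83.Rep.ev, map_list_prod, List.map_map]
    simp only [ThK83.decode_cons, show decode [] = [] from rfl, List.append_nil]
    exact congrArg List.prod (List.map_congr_left fun l hl => (qhom_f (ThK83.lt_nine_of_mem hl)).symm)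

theorem not_fixSome {u : List ℕ}
    (h : rangeB (fun p => nay (Nat.beq (qtabs.go u p) p)) 819 0 = true) :
    ¬ FixSome (rep.ev u) := by
  rintro ⟨p, hp⟩
  have h' := rangeB_spec h p (Nat.zero_le _) (by omega)
  rw [qgo_eq, hp] at h'
  rw [nay_iff, ← Bool.not_eq_true, beqN_iff] at h'
  exact h' rfl

theorem fixSome_of {u : List ℕ} {p : ℕ} (hp : p < 819) (h : Nat.beq (qtabs.go u p) p = true) :
    FixSome (rep.ev u) := by
  refine ⟨⟨p, hp⟩, Fin.ext ?_⟩
  rw [← qgo_eq]
  exact beqN_iff.1 h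

end Cfsg.Agent.Lib.ThOut39
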