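import Cfsg.Agent.Lib.ThOut39.Cent
import Cfsg.Agent.Lib.ThOut39.QPerm

/-!
The facts about `Kbar` used by the automorphism argument.
-/

set_option autoImplicit false

namespace Cfsg.Agent.Lib.ThOut39

open Cfsg.Agent.Lib.ThK83 (Kbar rep tabs band forallB rangeB nth base band_eq forallB_iff
  rangeB_spec beqN_iff nth_eq base_lt baseInj hold_eq)

/-- `s` -/
noncomputable def eS : Kbar := rep.ev sW
/-- `w` -/
noncomputable def eW : Kbar := rep.ev wW
/-- `b` -/
noncomputable def eB : Kbar := rep.ev bW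
/-- `c` -/
noncomputable def eC : Kbar := rep.ev cW
/-- `d c d` -/
noncomputable def eX : Kbar := rep.ev xW
/-- `r` -/
noncomputable def eR : Kbar := rep.ev rW
/-- `t` -/
noncomputable def eT : Kbar := rep.ev tW
/-- `d` -/
noncomputable def eD : Kbar := rep.ev dW
/-- the involutions -/
noncomputable def eI (i : ℕ) : Kbar := rep.ev (nth [] invW i)
/-- the two reference triples -/
noncomputable def eTr (i : ℕ) : Kbar := rep.ev (nth [] tripW i)

theorem ev_eq {u v : List ℕ} (h : eqv u v = true) : rep.ev u = rep.ev v :=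
  rep.eq_of_same base_lt baseInj h

theorem eqv_of {u v : List ℕ} (h : rep.ev u = rep.ev v) : eqv u v = true :=
  (rep.same_iff base_lt baseInj).2 h

theorem ev_powW (w : List ℕ) : ∀ n : ℕ, rep.ev (powW w n) = rep.ev w ^ n
  | 0 => by simp [powW, ThK83.Rep.ev_nil]
  | n + 1 => by
    show rep.ev (w ++ powW w n) = _
    rw [ThK83.Rep.ev_append, ev_powW w n, pow_succ']

theorem nay_eqv {u v : List ℕ} (h : nay (eqv u v) = true) : rep.ev u ≠ rep.ev v := fun e => by
  rw [nay_iff, eqv_of e] at h; exact Bool.noConfusion h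

theorem memV_spec {x : List ℕ} {l : List (List ℕ)} (h : memV x l = true) :
    ∃ i, i < l.length ∧ rep.ev x = rep.ev (nth [] l i) := by
  obtain ⟨w, hw, e⟩ := existsB_iff.1 h
  obtain ⟨i, hi, rfl⟩ := List.getElem_of_mem hw
  exact ⟨i, hi, by rw [nth_eq, List.getD_eq_getElem _ _ hi]; exact ev_eq e⟩

theorem cent_check {p : List ℕ → Bool} (h : forallB p centList = true) {k : Kbar}
    (hk : Commute k eS) : k = 1 ∨ ∃ w, k = rep.ev w ∧ p w = true := by
  rcases cent_s hk with h1 | ⟨w, hw, e⟩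
  · exact Or.inl h1
  · exact Or.inr ⟨w, e, forallB_iff.1 h w hw⟩

theorem comm_of_eqv {u v : List ℕ} (h : eqv (u ++ v) (v ++ u) = true) :
    Commute (rep.ev u) (rep.ev v) := by
  have := ev_eq h
  rwa [ThK83.Rep.ev_append, ThK83.Rep.ev_append] at this

theorem eqv_comm {u v : List ℕ} (h : Commute (rep.ev u) (rep.ev v)) :
    eqv (u ++ v) (v ++ u) = true :=
  eqv_of (by rw [ThK83.Rep.ev_append, ThK83.Rep.ev_append, h.eq])

theorem exists_inv {k : Kbar} (hk : Commute k eS) (h2 : k ^ 2 = 1) (h1 : k ≠ 1) :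
    ∃ i < 21, k = eI i := by
  rcases cent_check inv_scan hk with h | ⟨w, rfl, hw⟩
  · exact absurd h h1
  rw [ite2_eq, if_pos] at hw
  · obtain ⟨i, hi, e⟩ := memV_spec hw
    exact ⟨i, by have := beqN_iff.1 trip_len; omega, e⟩
  · rw [band_eq, Bool.and_eq_true, nay_iff]
    refine ⟨eqv_of (by rw [ev_powW, h2, ThK83.Rep.ev_nil]), ?_⟩
    rw [← Bool.not_eq_true]
    exact fun h => h1 ((ev_eq h).trans (ThK83.Rep.ev_nil rep))

/-- the conditions on the products of a triple -/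
structure TripCond {H : Type*} [Monoid H] (x y z : H) : Prop where
  xy : (x * y) ^ 3 = 1
  xy' : x * y ≠ 1
  xz : (x * z) ^ 3 = 1
  xz' : x * z ≠ 1
  yz : (y * z) ^ 4 = 1
  yz' : (y * z) ^ 2 ≠ 1

theorem tripCond_base : TripCond eB eC eX := by
  have h := base_orders
  simp only [band_eq, Bool.and_eq_true] at h
  obtain ⟨h1, h2, h3, h4, h5, h6⟩ := h
  have e := fun u : List ℕ => ev_eq (u := u) (v := [])
  refine ⟨?_, ?_, ?_, ?_, ?_, ?_⟩
  · have := e _ h1; rwa [ev_powW, ThK83.Rep.ev_append, ThK83.Rep.ev_nil] at this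
  · have := nay_eqv h2; rwa [ThK83.Rep.ev_append, ThK83.Rep.ev_nil] at this
  · have := e _ h3; rwa [ev_powW, ThK83.Rep.ev_append, ThK83.Rep.ev_nil] at this
  · have := nay_eqv h4; rwa [ThK83.Rep.ev_append, ThK83.Rep.ev_nil] at this
  · have := e _ h5; rwa [ev_powW, ThK83.Rep.ev_append, ThK83.Rep.ev_nil] at this
  · have := nay_eqv h6; rwa [ev_powW, ThK83.Rep.ev_append, ThK83.Rep.ev_nil] at this

theorem trip_find {i j k : ℕ} (hi : i < 21) (hj : j < 21) (hk : k < 21)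
    (h : TripCond (eI i) (eI j) (eI k)) :
    ∃ v, (v = 0 ∨ v = 3) ∧ ∃ l l' : Kbar, l' * l = 1 ∧ Commute l eS ∧
      eI i = l' * eTr v * l ∧ eI j = l' * eTr (v + 1) * l ∧ eI k = l' * eTr (v + 2) * l := by
  have hT := rangeB_spec (rangeB_spec trip_scan i (Nat.zero_le _) (by omega)) j (Nat.zero_le _)
    (by omega)
  have pos : ∀ {u : List ℕ}, rep.ev u = 1 → eqv u [] = true :=
    fun hu => eqv_of (hu.trans (ThK83.Rep.ev_nil rep).symm)
  have neg : ∀ {u : List ℕ}, rep.ev u ≠ 1 → nay (eqv u []) = true := fun hu => by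
    rw [nay_iff, ← Bool.not_eq_true]
    exact fun h => hu ((ev_eq h).trans (ThK83.Rep.ev_nil rep))
  rw [ite2_eq, if_pos] at hT
  swap
  · rw [band_eq, Bool.and_eq_true]
    exact ⟨pos (by rw [ev_powW, ThK83.Rep.ev_append]; exact h.xy),
      neg (by rw [ThK83.Rep.ev_append]; exact h.xy')⟩
  have hk' := rangeB_spec hT k (Nat.zero_le _) (by omega)
  rw [ite2_eq, if_pos] at hk'
  swap
  · simp only [tripTest, hold_eq, band_eq, Bool.and_eq_true]
    exact ⟨pos (by rw [ev_powW, ThK83.Rep.ev_append]; exact h.xz),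
      neg (by rw [ThK83.Rep.ev_append]; exact h.xz'),
      pos (by rw [ev_powW, ThK83.Rep.ev_append]; exact h.yz),
      neg (by rw [ev_powW, ThK83.Rep.ev_append]; exact h.yz')⟩
  obtain ⟨e, he, hm⟩ := existsB_iff.1 hk'
  simp only [band_eq, Bool.and_eq_true, beqN_iff] at hm
  obtain ⟨rfl, rfl, rfl⟩ := hm
  have hE := forallB_iff.1 trips_ok e he
  simp only [tripEntry, band_eq, Bool.and_eq_true] at hE
  obtain ⟨h3, hinv, hc, hv⟩ := hE
  obtain ⟨v, hv', ev'⟩ := existsB_iff.1 hv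
  refine ⟨e.2.2.2.1, ?_, rep.ev (nth [] lW e.2.2.2.2.1), rep.ev (nth [] lW e.2.2.2.2.2), ?_,
    comm_of_eqv hc, ?_, ?_, ?_⟩
  · rw [beqN_iff.1 ev']; simpa using hv'
  · have := ev_eq hinv
    rwa [ThK83.Rep.ev_append, ThK83.Rep.ev_nil] at this
  all_goals rw [eI, eTr, mul_assoc, ← ThK83.Rep.ev_append, ← ThK83.Rep.ev_append]
  · exact (ev_eq (forallB_iff.1 h3 (0, e.1) (List.mem_cons_self ..))).symm
  · exact (ev_eq (forallB_iff.1 h3 (1, e.2.1) (List.mem_cons_of_mem _ (List.mem_cons_self ..)))).symm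
  · exact (ev_eq (forallB_iff.1 h3 (2, e.2.2.1)
      (List.mem_cons_of_mem _ (List.mem_cons_of_mem _ (List.mem_cons_self ..))))).symm

theorem eTr_ref : eTr 0 = eB ∧ eTr 1 = eC ∧ eTr 2 = eX ∧ eB * (eC * eX) = eW ∧
    eTr 3 * (eTr 4 * eTr 5) = eW ^ 6 := by
  obtain ⟨h0, h1, h2, h3, h4⟩ := trip_ref
  refine ⟨ev_eq h0, ev_eq h1, ev_eq h2, ?_, ?_⟩
  · have := ev_eq h3; rwa [ThK83.Rep.ev_append, ThK83.Rep.ev_append] at this
  · have := ev_eq h4; rwa [ev_powW, ThK83.Rep.ev_append, ThK83.Rep.ev_append] at this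

theorem bcx_facts : ∀ y ∈ ({eB, eC, eX} : Set Kbar), y ^ 2 = 1 ∧ y ≠ 1 ∧ Commute y eS := by
  intro y hy
  have key : ∀ w ∈ [bW, cW, xW], rep.ev w ^ 2 = 1 ∧ rep.ev w ≠ 1 ∧ Commute (rep.ev w) eS := by
    intro w hw
    have h := forallB_iff.1 bcx_inv w hw
    simp only [band_eq, Bool.and_eq_true] at h
    have h2 := ev_eq h.1
    have h1 := nay_eqv h.2.1
    rw [ev_powW, ThK83.Rep.ev_nil] at h2
    rw [ThK83.Rep.ev_nil] at h1
    exact ⟨h2, h1, comm_of_eqv h.2.2⟩
  rcases hy with rfl | rfl | rfl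
  · exact key bW (by simp)
  · exact key cW (by simp)
  · exact key xW (by simp)

theorem s_pow7 : eS ^ 7 = 1 := by
  have := ev_eq s_order.1
  rwa [ev_powW, ThK83.Rep.ev_nil] at this

theorem s_ne : eS ≠ 1 := by
  have := nay_eqv s_order.2
  rwa [ThK83.Rep.ev_nil] at this

theorem w_comm : Commute eW eS := comm_of_eqv w_facts.1

theorem w_pow7 : eW ^ 7 = 1 := by
  have := ev_eq w_facts.2.1
  rwa [ev_powW, ThK83.Rep.ev_nil] at this

theorem sPows_ev {i : ℕ} (hi : i < 7) : rep.ev (nth [] sPows i) = eS ^ i := by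
  have hd := ThK83.eqLN_iff.1 (rangeB_spec sPows_ok i (Nat.zero_le _) (by omega))
  rw [ThK83.Rep.ev, hd, eS, ThK83.Rep.ev, show ThK83.decode sW = [5] by decide +kernel]
  clear hd hi
  induction i with
  | zero => simp [replN]
  | succ n ih =>
    show ((5 :: replN 5 n).map rep.f).prod = _
    rw [List.map_cons, List.prod_cons, ih, pow_succ']
    simp

theorem w_not_pow : eW ∉ Subgroup.zpowers eS := by
  intro h
  have h7 : eS ^ 7 = 1 := s_pow7
  obtain ⟨n, hn⟩ := h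
  have e : eS ^ ((n % 7).toNat) = eW := by
    rw [← zpow_natCast, Int.toNat_of_nonneg (Int.emod_nonneg n (by norm_num))]
    refine Eq.trans ?_ hn
    show _ = eS ^ n
    conv_rhs => rw [show n = n % 7 + 7 * (n / 7) by omega, zpow_add, zpow_mul, zpow_ofNat, h7,
      one_zpow, mul_one]
  have hlt : (n % 7).toNat < 7 := by omega
  have h' := w_facts.2.2
  rw [nay_iff, ← Bool.not_eq_true] at h'
  refine h' (existsB_iff.2 ⟨nth [] sPows (n % 7).toNat, ?_, eqv_of ?_⟩)
  · have hlen : (n % 7).toNat < sPows.length := hlt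
    rw [nth_eq, List.getD_eq_getElem _ _ hlen]; exact List.getElem_mem _
  · rw [sPows_ev hlt, e]; rfl

theorem r_pow3 : eR ^ 3 = 1 := by
  have := ev_eq r_facts.1
  rwa [ev_powW, ThK83.Rep.ev_nil] at this

theorem r_conj_s : eR⁻¹ * eS * eR = eS ^ 3 * eW := by
  have := ev_eq r_facts.2.1
  simp only [ThK83.Rep.ev_append, ev_powW] at this
  rw [mul_assoc, inv_mul_eq_iff_eq_mul]; exact this

theorem r_conj_w : eR⁻¹ * eW * eR = eS ^ 2 * eW ^ 2 := by
  have := ev_eq r_facts.2.2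
  simp only [ThK83.Rep.ev_append, ev_powW] at this
  rw [mul_assoc, inv_mul_eq_iff_eq_mul]; exact this

theorem r_find {q : Kbar} (hs : Commute q eS) (hw : Commute q eW) (h3 : (q * eR) ^ 3 = 1) :
    ∃ i : ℕ, q * eR = (eS ^ i)⁻¹ * eR * eS ^ i := by
  rcases cent_check r_scan hs with rfl | ⟨w, rfl, hc⟩
  · exact ⟨0, by simp⟩
  rw [ite2_eq, if_pos] at hc
  · obtain ⟨i, hi, e⟩ := memV_spec hc
    have hi7 : i < 7 := hi
    have h := ev_eq (rangeB_spec rFam_ok i (Nat.zero_le _) (by omega))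
    rw [ThK83.Rep.ev_append, ThK83.Rep.ev_append, sPows_ev hi7] at h
    refine ⟨i, ?_⟩
    rw [ThK83.Rep.ev_append] at e
    rw [show eR = rep.ev rW from rfl, e, mul_assoc, ← h, inv_mul_cancel_left]
  · rw [band_eq, Bool.and_eq_true]
    exact ⟨eqv_comm hw, eqv_of (by rw [ev_powW, ThK83.Rep.ev_append, ThK83.Rep.ev_nil]; exact h3)⟩

theorem t_conj : eT⁻¹ * eS * eT = eS ^ 2 ∧ eD⁻¹ * eS * eD = eS ^ 6 := by
  have h1 := ev_eq t_facts.1
  have h2 := ev_eq t_facts.2.1
  simp only [ThK83.Rep.ev_append, ev_powW] at h1 h2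
  exact ⟨by rw [mul_assoc, inv_mul_eq_iff_eq_mul]; exact h1,
    by rw [mul_assoc, inv_mul_eq_iff_eq_mul]; exact h2⟩

theorem t_comm : Commute eT eB ∧ Commute eT eC ∧ Commute eT eD :=
  ⟨comm_of_eqv (forallB_iff.1 t_facts.2.2 bW (by simp)),
    comm_of_eqv (forallB_iff.1 t_facts.2.2 cW (by simp)),
    comm_of_eqv (forallB_iff.1 t_facts.2.2 dW (by simp))⟩

theorem t_find {k : Kbar} (hs : Commute k eS) (hb : Commute k eB) (hc : Commute k eC)
    (hd : Commute k eD) : k = 1 := by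
  rcases cent_check t_scan hs with h | ⟨w, rfl, hw⟩
  · exact h
  rw [ite2_eq, if_pos] at hw
  · exact (ev_eq hw).trans (ThK83.Rep.ev_nil rep)
  · simp only [band_eq, Bool.and_eq_true]
    exact ⟨eqv_comm hb, eqv_comm hc, eqv_comm hd⟩

theorem good_s : FixSome eS := fixSome_of (by norm_num) q_good

theorem bad_sw : ¬ FixSome (eS ^ 3 * eW ^ 6) := by
  have := not_fixSome q_bad
  rwa [ThK83.Rep.ev_append, ev_powW, ev_powW] at this

theorem ev_single {w : List ℕ} {l : ℕ} (h : ThK83.decode w = [l]) : rep.ev w = rep.f l := by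
  rw [ThK83.Rep.ev, h]; simp

theorem gen_mem (S : Subgroup Kbar) (hs : eS ∈ S) (hb : eB ∈ S) (hc : eC ∈ S) (hx : eX ∈ S)
    (hr : eR ∈ S) : rep.ev aW ∈ S ∧ eD ∈ S ∧ rep.ev eWd ∈ S := by
  obtain ⟨hd, he, ha, h7, h5, h6, hrest⟩ := gen_facts
  have hcat : ∀ ix, rep.ev (catW genW ix) ∈ S := fun ix => by
    rw [ev_catW]
    refine S.list_prod_mem fun y hy => ?_
    obtain ⟨i, -, rfl⟩ := List.mem_map.1 hy
    by_cases h : i < 8
    · interval_cases i
      · rw [ev_eq (forallB_iff.1 hrest (0, sW) (by simp))]; exact hs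
      · rw [ev_eq (forallB_iff.1 hrest (1, bW) (by simp))]; exact hb
      · rw [ev_eq (forallB_iff.1 hrest (2, cW) (by simp))]; exact hc
      · rw [ev_eq (forallB_iff.1 hrest (3, xW) (by simp))]; exact hx
      · rw [ev_eq (forallB_iff.1 hrest (4, rW) (by simp))]; exact hr
      · have e := ev_eq h5
        rw [ThK83.Rep.ev_append, ThK83.Rep.ev_nil] at e
        rw [eq_inv_of_mul_eq_one_left e]; exact S.inv_mem hs
      · have e := ev_eq h6
        rw [ThK83.Rep.ev_append, ThK83.Rep.ev_nil] at e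
        rw [eq_inv_of_mul_eq_one_left e]; exact S.inv_mem hr
      · rw [ev_eq h7, ← ev_eq ha, ev_powW, ThK83.Rep.ev_append]
        exact S.pow_mem (S.mul_mem hc hx) 2
    · rw [nth_eq, List.getD_eq_default _ _ (by show 8 ≤ i; omega), ThK83.Rep.ev_nil]
      exact one_mem _
  refine ⟨?_, ?_, ?_⟩
  · rw [← ev_eq ha, ev_powW, ThK83.Rep.ev_append]
    exact S.pow_mem (S.mul_mem hc hx) 2
  · rw [eD, ← ev_eq hd]; exact hcat _
  · rw [← ev_eq he]; exact hcat _

/-- a subgroup with the five elements and `t` is everything -/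
theorem eq_top_of_mem (S : Subgroup Kbar) (hs : eS ∈ S) (hb : eB ∈ S) (hc : eC ∈ S) (hx : eX ∈ S)
    (hr : eR ∈ S) (ht : eT ∈ S) : S = ⊤ := by
  obtain ⟨ha, hd, he⟩ := gen_mem S hs hb hc hx hr
  rw [eq_top_iff, ← ThK83.closure_rep, Subgroup.closure_le]
  intro y hy
  simp only [Set.mem_insert_iff, Set.mem_singleton_iff] at hy
  rcases hy with rfl | rfl | rfl | rfl | rfl | rfl | rfl
  · rwa [← ev_single (w := aW) (by decide +kernel)]
  · rwa [← ev_single (w := bW) (by decide +kernel)]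
  · rwa [← ev_single (w := cW) (by decide +kernel)]
  · rwa [← ev_single (w := dW) (by decide +kernel)]
  · rwa [← ev_single (w := eWd) (by decide +kernel)]
  · rwa [← ev_single (w := sW) (by decide +kernel)]
  · rwa [← ev_single (w := tW) (by decide +kernel)]

end Cfsg.Agent.Lib.ThOut39
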