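import Cfsg.Agent.Lib.ThOut39.Plane
import Cfsg.Agent.Lib.ThOut39.EqFive
import Cfsg.Agent.Lib.ThOut39.EqTenA
import Cfsg.Agent.Lib.ThOut39.EqTenB
import Cfsg.Agent.Lib.Th55.Simple
import Cfsg.Agent.Lib.Th23.DerivData

/-!
The normaliser of the group of `s` lies in the image of `Kbar`, and all elements of order seven
are conjugate into it.
-/

set_option autoImplicit false

namespace Cfsg.Agent.Lib.ThOut39

open Cfsg.Spor
open Cfsg.Agent.Lib.ThK83 (Kbar rep band_eq forallB_iff rangeB_spec beqN_iff)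
open Cfsg.Agent.Lib.Th23 (ThCover thStab kM)
open Cfsg.Agent.Lib.Th55 (gg thPhi thMaps thCtx)
open Cfsg.Agent.Lib.LyDC (nth)

theorem thv_letter (l : ℕ) (hl : l < 9) :
    thv [thLet l] = Th23.letVal (gg .a) (gg .b) (gg .c) (gg .d) (gg .e) (gg .s) (gg .t) l := by
  interval_cases l <;> simp [thv, thLet, Th23.letVal]

theorem thv_map_thLet : ∀ v : List ℕ, (∀ l ∈ v, l < 9) →
    thv (v.map thLet) =
      (v.map (Th23.letVal (gg .a) (gg .b) (gg .c) (gg .d) (gg .e) (gg .s) (gg .t))).prod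
  | [], _ => by
    show thv [] = _
    simp [thv, ← FreeGroup.one_eq_mk]
  | l :: v, h => by
    show thv ([thLet l] ++ v.map thLet) = _
    rw [thv_append, thv_map_thLet v (fun x hx => h x (List.mem_cons_of_mem _ hx)),
      thv_letter l (h l List.mem_cons_self), List.map_cons, List.prod_cons]

theorem thv_kLets (u : List ℕ) : thv (kLets u) = thPhi (rep.ev u) := by
  rw [thMaps.ev_eq, kLets, thv_map_thLet _ fun l hl => ThK83.mem_decode_lt hl]

theorem thv_wStep (L : List (Th.Gen × Bool)) (h : List ℕ) :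
    thv (wStep L h) = thv L * thPhi (rep.ev h) * gg .u := by
  rw [wStep, thv_append, thv_append, thv_kLets]
  simp [thv]

variable (Z : ThCover) (hpar : Z.R.D.par = Th23.deriv.par)

include hpar in
theorem W_step {j i : ℕ} {h : List ℕ} (e : nth (0, []) Th23.deriv.par j = (i, h)) (hij : i ≤ j) :
    (thCtx Z).W (j + 1) = (thCtx Z).W i * thPhi (rep.ev h) * gg .u := by
  have hp : nth (0, []) Z.R.D.par j = (i, h) := by rw [hpar, e]
  rw [Th23.Ctx.W, dif_pos (by rw [hp]; omega)]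
  rw [hp]
  rfl

include hpar in
theorem W_words : (thCtx Z).W 5 = thv wL5 ∧ (thCtx Z).W 10 = thv wL10 := by
  have h0 : (thCtx Z).W 0 = thv [] := by
    rw [Th23.Ctx.W_zero]; simp [thv, ← FreeGroup.one_eq_mk]
  have st : ∀ {j i : ℕ} {h : List ℕ} {L : List (Th.Gen × Bool)},
      nth (0, []) Th23.deriv.par j = (i, h) → i ≤ j → (thCtx Z).W i = thv L →
      (thCtx Z).W (j + 1) = thv (wStep L h) := by
    intro j i h L e hij eL
    rw [W_step Z hpar e hij, thv_wStep, eL]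
  have h1 : (thCtx Z).W 1 = thv wL1 := st (j := 0) rfl le_rfl h0
  have h2 : (thCtx Z).W 2 = thv wL2 := st (j := 1) rfl le_rfl h1
  have h3 : (thCtx Z).W 3 = thv wL3 := st (j := 2) rfl le_rfl h2
  have h5 : (thCtx Z).W 5 = thv wL5 := st (j := 4) rfl (by decide) h2
  have h7 : (thCtx Z).W 7 = thv wL7 := st (j := 6) rfl (by decide) h3
  exact ⟨h5, st (j := 9) rfl (by decide) h7⟩

variable (hdvd : 90745943887872000 ∣ Nat.card Th)

include hpar hdvd in
theorem conj_words :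
    (thCtx Z).W 5 * thPhi (rep.ev z5W) * ((thCtx Z).W 5)⁻¹ = thPhi (rep.ev y5W) ∧
    (thCtx Z).W 10 * thPhi (rep.ev z1W) * ((thCtx Z).W 10)⁻¹ = thPhi (rep.ev y1W) ∧
    (thCtx Z).W 10 * thPhi (rep.ev z2W) * ((thCtx Z).W 10)⁻¹ = thPhi (rep.ev y2W) := by
  have hs := Th55.isSimpleGroup_th Z hdvd
  obtain ⟨e5, e10⟩ := W_words Z hpar
  simp only [e5, e10, ← thv_kLets]
  exact ⟨thv_eq_of_check hs eq5, thv_eq_of_check hs eq10a, thv_eq_of_check hs eq10b⟩

theorem fixSome_of_pow {x : Kbar} {m : ℕ} (h7 : x ^ 7 = 1) (hm : m % 7 ≠ 0)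
    (h : FixSome (x ^ m)) : FixSome x := by
  have key : ∀ r : Fin 7, r ≠ 0 → ∃ e : Fin 7, (r : ℕ) * e % 7 = 1 := by decide
  obtain ⟨e, he⟩ := key ⟨m % 7, Nat.mod_lt _ (by norm_num)⟩
    (fun h' => hm (congrArg Fin.val h'))
  have h2 := fixSome_pow h (e : ℕ)
  have he' : m * (e : ℕ) % 7 = 1 := by
    rw [Nat.mul_mod, Nat.mod_eq_of_lt e.2]; exact he
  rwa [← pow_mul, pow_eq_pow_mod _ h7, he', pow_one] at h2

theorem factor_seven {r : ℕ} (p : ℕ) (h : ¬ 7 ∣ r) : (7 ^ p * r).factorization 7 = p := by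
  have hp : Nat.Prime 7 := by norm_num
  rw [Nat.factorization_mul (pow_ne_zero _ hp.ne_zero) (by rintro rfl; exact h (dvd_zero 7))]
  simp [hp.factorization_pow, hp.factorization_self, Nat.factorization_eq_zero_of_not_dvd h]

include hdvd in
theorem sylow_conj {j : ℕ} (hj : j < 11) {P : Subgroup Kbar} (hP : P ≤ (thCtx Z).S j) {p : ℕ}
    (hcard : Nat.card P = 7 ^ p) (hp : (thStab.getD j 0).factorization 7 = p)
    {y : Kbar} (hy : y ∈ (thCtx Z).S j) (h7 : y ^ 7 = 1) :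
    ∃ c ∈ (thCtx Z).S j, c * y * c⁻¹ ∈ P := by
  have : Fact (Nat.Prime 7) := ⟨by norm_num⟩
  have : Finite Kbar := Nat.finite_of_card_ne_zero (by rw [ThK83.card_Kbar]; norm_num)
  set S := (thCtx Z).S j
  let Q : Sylow 7 S := Sylow.ofCard (P.subgroupOf S) (by
    rw [Nat.card_congr (Subgroup.subgroupOfEquivOfLe hP).toEquiv, hcard,
      Th55.card_stab Z hdvd j hj, hp])
  have hY : IsPGroup 7 (Subgroup.zpowers (⟨y, hy⟩ : S)) := by
    intro z
    refine ⟨1, ?_⟩
    obtain ⟨k, hk⟩ := Subgroup.mem_zpowers_iff.1 z.2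
    refine Subtype.ext (Subtype.ext ?_)
    have : (z.1.1 : Kbar) = y ^ k := by rw [← hk]; rfl
    show z.1.1 ^ (7 ^ 1) = 1
    rw [this, pow_one, ← zpow_natCast, ← zpow_mul, mul_comm, zpow_mul, zpow_natCast, h7, one_zpow]
  obtain ⟨R, hR⟩ := hY.exists_le_sylow
  obtain ⟨c, hc⟩ := MulAction.exists_smul_eq S R Q
  refine ⟨c.1, c.2, ?_⟩
  have hm : c * ⟨y, hy⟩ * c⁻¹ ∈ (Q : Subgroup S) := by
    rw [← hc, Sylow.coe_subgroup_smul]
    exact Subgroup.smul_mem_pointwise_smul _ _ _ (hR (Subgroup.mem_zpowers _))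
  exact hm

include hpar hdvd in
/-- an element of order seven of a stabiliser and its image are not both in the class of `s` -/
theorem not_both {j : ℕ} (hj : j < 11) (hj0 : j ≠ 0) {y z : Kbar} (h7 : y ^ 7 = 1) (h1 : y ≠ 1)
    (he : (thCtx Z).W j * thPhi y * ((thCtx Z).W j)⁻¹ = thPhi z)
    (hy : FixSome y) (hz : FixSome z) : False := by
  have : Fact (Nat.Prime 7) := ⟨by norm_num⟩
  have : Finite Kbar := Nat.finite_of_card_ne_zero (by rw [ThK83.card_Kbar]; norm_num)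
  have hyS : y ∈ (thCtx Z).S j := by
    show (thCtx Z).W j * thPhi y * ((thCtx Z).W j)⁻¹ ∈ thPhi.range
    exact ⟨z, he.symm⟩
  have hdiv : 7 ∣ thStab.getD j 0 := by
    rw [← Th55.card_stab Z hdvd j hj, ← orderOf_eq_prime (p := 7) h7 h1,
      ← Subgroup.orderOf_mk _ hyS]
    exact orderOf_dvd_natCard _
  have hinj := Th55.thPhi_injective Z hdvd
  obtain ⟨e5, e10a, e10b⟩ := conj_words Z hpar hdvd
  -- conjugate into a known subgroup
  have move : ∀ c ∈ (thCtx Z).S j, ∀ x x' : Kbar, c * y * c⁻¹ = x →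
      (thCtx Z).W j * thPhi x * ((thCtx Z).W j)⁻¹ = thPhi x' → FixSome x ∧ FixSome x' := by
    intro c hc x x' hx hx'
    obtain ⟨c', hc'⟩ : ∃ c', thPhi c' = (thCtx Z).W j * thPhi c * ((thCtx Z).W j)⁻¹ := hc
    refine ⟨by rw [← hx]; simpa using fixSome_conj c⁻¹ hy, ?_⟩
    have e : x' = c' * z * c'⁻¹ := hinj (by
      rw [← hx', ← hx, map_mul, map_mul, map_mul, map_mul, map_inv, map_inv, hc', ← he]
      group)
    rw [e]; simpa using fixSome_conj c'⁻¹ hz
  have hd : j = 5 ∨ j = 10 :=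
    (show ∀ i < 11, i ≠ 0 → 7 ∣ thStab.getD i 0 → i = 5 ∨ i = 10 by decide) j hj hj0 hdiv
  rcases hd with rfl | rfl
  · have h5 := z5_order
    simp only [band_eq, Bool.and_eq_true] at h5
    have hz7 : rep.ev z5W ^ 7 = 1 := ev_pow7 h5.1
    have hz1 : rep.ev z5W ≠ 1 := fun h => nay_eqv h5.2 (by rw [h, ThK83.Rep.ev_nil])
    have hmem : Subgroup.zpowers (rep.ev z5W) ≤ (thCtx Z).S 5 :=
      Subgroup.zpowers_le.2 ⟨rep.ev y5W, e5.symm⟩
    obtain ⟨c, hc, hx⟩ := sylow_conj Z hdvd (by norm_num) hmem (p := 1)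
      (by rw [Nat.card_zpowers, orderOf_eq_prime hz7 hz1, pow_one])
      (by
        show Nat.factorization 126 7 = 1
        rw [show (126 : ℕ) = 7 ^ 1 * 18 by norm_num]
        exact factor_seven 1 (by norm_num)) hyS h7
    obtain ⟨n, hn⟩ := Subgroup.mem_zpowers_iff.1 hx
    have hn' : c * y * c⁻¹ = rep.ev z5W ^ (n % 7).toNat := by
      rw [← hn, ← zpow_natCast, Int.toNat_of_nonneg (Int.emod_nonneg n (by norm_num))]
      conv_lhs => rw [show n = n % 7 + 7 * (n / 7) by omega, zpow_add, zpow_mul, zpow_ofNat, hz7,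
        one_zpow, mul_one]
    have hne : (n % 7).toNat % 7 ≠ 0 := by
      intro h0
      rw [pow_eq_pow_mod _ hz7, h0, pow_zero, mul_inv_eq_one, mul_eq_left] at hn'
      exact h1 hn'
    obtain ⟨hb, -⟩ := move c hc _ (rep.ev y5W ^ (n % 7).toNat) hn' (by
      rw [map_pow, map_pow, ← conj_pow, e5])
    exact not_fixSome z5_noFix (fixSome_of_pow hz7 hne hb)
  · obtain ⟨hza, hzb, -, hnz⟩ := planeOK_spec plane_z
    have hmem : plane z1W z2W ≤ (thCtx Z).S 10 := by
      refine (Subgroup.closure_le _).2 ?_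
      rintro x (rfl | rfl)
      exacts [⟨rep.ev y1W, e10a.symm⟩, ⟨rep.ev y2W, e10b.symm⟩]
    obtain ⟨c, hc, hx⟩ := sylow_conj Z hdvd (by norm_num) hmem (p := 2) (plane_card plane_z)
      (by
        show Nat.factorization 3528 7 = 2
        rw [show (3528 : ℕ) = 7 ^ 2 * 72 by norm_num]
        exact factor_seven 2 (by norm_num)) hyS h7
    obtain ⟨n, hn, en⟩ := plane_mem plane_z hx
    have hn0 : n ≠ 0 := by
      rintro rfl
      rw [ev_comb, Nat.zero_div, Nat.zero_mod, pow_zero, pow_zero, one_mul, mul_inv_eq_one,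
        mul_eq_left] at en
      exact h1 en
    obtain ⟨hb, hb'⟩ := move c hc _ (rep.ev (comb y1W y2W n)) en (by
      rw [ev_comb, ev_comb, map_mul, map_pow, map_pow, map_mul, map_pow, map_pow, ← e10a, ← e10b,
        conj_pow, conj_pow]
      group)
    have h := rangeB_spec z_pairs n (Nat.zero_le _) (by omega)
    rw [ite2_eq, if_neg (by rw [beqN_iff]; exact hn0)] at h
    rw [ite2_eq] at h
    split_ifs at h with hf
    · exact not_fixSome hf hb
    · exact not_fixSome h hb'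

include hpar hdvd in
/-- the normaliser of the group of `s` lies in the image -/
theorem n7_mem (g : Th) (h : g * thPhi eS * g⁻¹ ∈ Subgroup.zpowers (thPhi eS)) :
    g ∈ thPhi.range := by
  obtain ⟨j, hj, a, b, rfl⟩ := (Th55.th_covered Z).cover_left g
  rw [Th55.thCtx_phi] at h ⊢
  rcases Nat.eq_zero_or_pos j with rfl | h0
  · rw [Th23.Ctx.W_zero, inv_one, mul_one]
    exact mul_mem ⟨a, rfl⟩ ⟨b, rfl⟩
  exfalso
  have hs7 : thPhi eS ^ 7 = 1 := by rw [← map_pow, s_pow7, map_one]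
  obtain ⟨n, hn⟩ := Subgroup.mem_zpowers_iff.1 h
  have hn' : thPhi a * ((thCtx Z).W j)⁻¹ * thPhi b * thPhi eS *
      (thPhi a * ((thCtx Z).W j)⁻¹ * thPhi b)⁻¹ = thPhi (eS ^ (n % 7).toNat) := by
    rw [← hn, map_pow, ← zpow_natCast, Int.toNat_of_nonneg (Int.emod_nonneg n (by norm_num))]
    conv_lhs => rw [show n = n % 7 + 7 * (n / 7) by omega, zpow_add, zpow_mul, zpow_ofNat, hs7,
      one_zpow, mul_one]
  have hinj := Th55.thPhi_injective Z hdvd
  have hm : (n % 7).toNat % 7 ≠ 0 := by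
    intro h0'
    rw [map_pow, pow_eq_pow_mod _ hs7, h0', pow_zero, mul_inv_eq_one, mul_eq_left] at hn'
    exact s_ne (hinj (hn'.trans (map_one _).symm))
  refine not_both Z hpar hdvd hj (by omega) (y := a⁻¹ * eS ^ (n % 7).toNat * a)
    (z := b * eS * b⁻¹) ?_ ?_ ?_ (fixSome_conj a (fixSome_pow good_s _))
    (by simpa using fixSome_conj b⁻¹ good_s)
  · rw [show a⁻¹ * eS ^ (n % 7).toNat * a = MulAut.conj a⁻¹ (eS ^ (n % 7).toNat) by simp,
      ← map_pow, ← pow_mul, mul_comm, pow_mul, s_pow7, one_pow, map_one]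
  · rw [show a⁻¹ * eS ^ (n % 7).toNat * a = MulAut.conj a⁻¹ (eS ^ (n % 7).toNat) by simp]
    intro h1
    have h2 := (map_eq_one_iff _ (MulAut.conj a⁻¹).injective).1 h1
    rw [pow_eq_pow_mod _ s_pow7] at h2
    have : orderOf eS ∣ (n % 7).toNat % 7 := orderOf_dvd_of_pow_eq_one h2
    rw [orderOf_eq_prime (p := 7) (hp := ⟨by norm_num⟩) s_pow7 s_ne] at this
    omega
  · simp only [map_mul, map_inv]
    rw [← hn']
    group

include hpar hdvd in
/-- the elements of order seven are conjugate into the group of `s` -/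
theorem conj7_mem (x : Th) (h7 : x ^ 7 = 1) (h1 : x ≠ 1) :
    ∃ g : Th, g * x * g⁻¹ ∈ Subgroup.zpowers (thPhi eS) := by
  have : Fact (Nat.Prime 7) := ⟨by norm_num⟩
  have : Finite Th := Th55.th_finite Z
  have hinj := Th55.thPhi_injective Z hdvd
  let P : Sylow 7 Th := Sylow.ofCard ((plane sW wW).map thPhi) (by
    rw [← Nat.card_congr (Subgroup.equivMapOfInjective _ thPhi hinj).toEquiv, plane_card plane_sw,
      Th55.th_card Z hdvd, show (90745943887872000 : ℕ) = 7 ^ 2 * 1851958038528000 by norm_num,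
      factor_seven 2 (by norm_num)])
  have hY : IsPGroup 7 (Subgroup.zpowers x) := IsPGroup.of_card (n := 1) (by
    rw [Nat.card_zpowers, orderOf_eq_prime h7 h1, pow_one])
  obtain ⟨R, hR⟩ := hY.exists_le_sylow
  obtain ⟨c, hc⟩ := MulAction.exists_smul_eq Th R P
  have hm : c * x * c⁻¹ ∈ (P : Subgroup Th) := by
    rw [← hc, Sylow.coe_subgroup_smul]
    exact Subgroup.smul_mem_pointwise_smul _ _ _ (hR (Subgroup.mem_zpowers _))
  obtain ⟨q, hq, eq⟩ := hm
  obtain ⟨n, hn, rfl⟩ := plane_mem plane_sw hq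
  have hn0 : n ≠ 0 := by
    rintro rfl
    rw [ev_comb, Nat.zero_div, Nat.zero_mod, pow_zero, pow_zero, one_mul, map_one] at eq
    rw [eq_comm, mul_inv_eq_one, mul_eq_left] at eq
    exact h1 eq
  obtain ⟨k, m, e, hk | hk⟩ := line_cases hn hn0
  · refine ⟨(thPhi k)⁻¹ * c, ?_⟩
    have : (thPhi k)⁻¹ * c * x * ((thPhi k)⁻¹ * c)⁻¹ = thPhi eS ^ (m * e) := by
      rw [← map_pow, ← hk, map_mul, map_mul, map_inv, eq]; group
    rw [this]
    exact Subgroup.pow_mem _ (Subgroup.mem_zpowers _) _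
  · obtain ⟨-, e10, -⟩ := conj_words Z hpar hdvd
    refine ⟨(thPhi (rep.ev kyW))⁻¹ * (thCtx Z).W 10 * (thPhi k)⁻¹ * c, ?_⟩
    have : (thPhi (rep.ev kyW))⁻¹ * (thCtx Z).W 10 * (thPhi k)⁻¹ * c * x *
        ((thPhi (rep.ev kyW))⁻¹ * (thCtx Z).W 10 * (thPhi k)⁻¹ * c)⁻¹ =
        thPhi eS ^ (m * e) := by
      calc _ = (thPhi (rep.ev kyW))⁻¹ * ((thCtx Z).W 10 *
            ((thPhi k)⁻¹ * (c * x * c⁻¹) * thPhi k) * ((thCtx Z).W 10)⁻¹) * thPhi (rep.ev kyW) := by
            group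
        _ = (thPhi (rep.ev kyW))⁻¹ * thPhi (rep.ev y1W) ^ (m * e) * thPhi (rep.ev kyW) := by
            rw [← eq, ← map_inv thPhi k, ← map_mul, ← map_mul, hk, map_pow, ← conj_pow, e10]
        _ = _ := by
            rw [← map_pow thPhi eS, ← y1_conj]
            have := conj_pow (a := (rep.ev kyW)⁻¹) (b := rep.ev y1W) (i := m * e)
            rw [inv_inv] at this
            rw [this, map_mul, map_mul, map_inv, map_pow]
    rw [this]
    exact Subgroup.pow_mem _ (Subgroup.mem_zpowers _) _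

end Cfsg.Agent.Lib.ThOut39
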