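import Cfsg.Agent.Lib.ThOut39.Aut
import Cfsg.Agent.Lib.ThOut39.Seven

/-!
The Thompson group has only inner automorphisms, given the covering derivation and the divisor
of the order.
-/

set_option autoImplicit false

namespace Cfsg.Agent.Lib.ThOut39

open Cfsg.Spor
open Cfsg.Agent.Lib.ThK83 (Kbar rep beqN_iff forallB_iff)
open Cfsg.Agent.Lib.Th23 (ThCover thStab kM thTokW)
open Cfsg.Agent.Lib.Th55 (gg thPhi thMaps thCtx)

variable (Z : ThCover)

theorem thCtx_u : (thCtx Z).u = gg .u := rfl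

include Z in
theorem uu_mem : gg .u * gg .u ∈ thPhi.range :=
  ⟨_, (thCtx Z).uu.symm⟩

include Z in
/-- tokens are pushed through `u` -/
theorem u_push {y : Kbar} (hy : y ∈ U) : ∃ z, thPhi y * gg .u = gg .u * thPhi z := by
  refine (thCtx Z).tok_push y (Z.fix_le ?_)
  intro p hp
  rw [List.mem_singleton.1 hp]
  exact U_le hy 0 (List.mem_singleton_self 0)

include Z in
/-- conjugation either way round by `u` -/
theorem u_conj_iff (y : Kbar) :
    gg .u * thPhi y * (gg .u)⁻¹ ∈ thPhi.range ↔ (gg .u)⁻¹ * thPhi y * gg .u ∈ thPhi.range := by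
  have h := uu_mem Z
  constructor <;> intro hy
  · have := mul_mem (mul_mem (inv_mem h) hy) h
    simpa [mul_assoc] using this
  · have := mul_mem (mul_mem h hy) (inv_mem h)
    simpa [mul_assoc] using this

variable (hdvd : 90745943887872000 ∣ Nat.card Th)

theorem mem_S_one {y : Kbar} :
    y ∈ (thCtx Z).S 1 ↔ gg .u * thPhi y * (gg .u)⁻¹ ∈ thPhi.range := by
  show (thCtx Z).W 1 * thPhi y * ((thCtx Z).W 1)⁻¹ ∈ thPhi.range ↔ _
  rw [Th23.Ctx.W_one, thCtx_u]

include hdvd in
/-- the stabiliser of the suborbit representative is `U` -/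
theorem S_one_eq : (thCtx Z).S 1 = U := by
  have : Finite Kbar := Nat.finite_of_card_ne_zero (by rw [ThK83.card_Kbar]; norm_num)
  refine (Subgroup.eq_of_le_of_card_ge (fun y hy => ?_) ?_).symm
  · rw [mem_S_one, u_conj_iff Z]
    obtain ⟨z, hz⟩ := u_push Z hy
    exact ⟨z, by rw [mul_assoc, hz, inv_mul_cancel_left]⟩
  · rw [Th55.card_stab Z hdvd 1 (by norm_num)]
    exact card_U_ge

include Z hdvd in
theorem card_U : Nat.card U = 36864 := by
  rw [← S_one_eq Z hdvd, Th55.card_stab Z hdvd 1 (by norm_num)]; rfl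

include Z hdvd in
theorem suborbit_mem (g : Th) (hg : g ∉ thPhi.range)
    (hU : ∀ y ∈ U, g⁻¹ * thPhi y * g ∈ thPhi.range) :
    ∃ h k, g = thPhi h * gg .u * thPhi k := by
  have : Finite Kbar := Nat.finite_of_card_ne_zero (by rw [ThK83.card_Kbar]; norm_num)
  obtain ⟨j, hj, a, b, rfl⟩ := (Th55.th_covered Z).cover_left g
  rw [Th55.thCtx_phi] at hg hU ⊢
  rcases Nat.eq_zero_or_pos j with rfl | h0
  · exact absurd (by rw [Th23.Ctx.W_zero, inv_one, mul_one]; exact mul_mem ⟨a, rfl⟩ ⟨b, rfl⟩) hg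
  have hle : ∀ y : U, a⁻¹ * y.1 * a ∈ (thCtx Z).S j := by
    intro y
    show (thCtx Z).W j * thPhi (a⁻¹ * y.1 * a) * ((thCtx Z).W j)⁻¹ ∈ thPhi.range
    have h1 := mul_mem (mul_mem (⟨b, rfl⟩ : thPhi b ∈ thPhi.range) (hU y.1 y.2))
      (inv_mem (⟨b, rfl⟩ : thPhi b ∈ thPhi.range))
    convert h1 using 1
    simp only [map_mul, map_inv]
    group
  have hcard : Nat.card U ≤ Nat.card ((thCtx Z).S j) :=
    Nat.card_le_card_of_injective (fun y => (⟨_, hle y⟩ : (thCtx Z).S j)) fun y z e => by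
      have e' : a⁻¹ * y.1 * a = a⁻¹ * z.1 * a := congrArg Subtype.val e
      exact Subtype.ext (mul_left_cancel (mul_right_cancel e'))
  rw [card_U Z hdvd, Th55.card_stab Z hdvd j hj] at hcard
  have hj1 : j = 1 :=
    (show ∀ i < 11, 0 < i → 36864 ≤ thStab.getD i 0 → i = 1 by decide) j hj h0 hcard
  subst hj1
  rw [Th23.Ctx.W_one, thCtx_u]
  obtain ⟨c, hc⟩ := uu_mem Z
  refine ⟨a * c⁻¹, b, ?_⟩
  rw [map_mul, map_inv, hc]
  group

variable (hpar : Z.R.D.par = Th23.deriv.par)

include Z hdvd hpar in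
/-- the facts of the automorphism argument hold in the Thompson group -/
noncomputable def thSetup : Setup Th where
  ι := thPhi
  inj := Th55.thPhi_injective Z hdvd
  u := gg .u
  gen := by
    rw [← Th55.thCtx_phi Z, ← thCtx_u Z, ← MonoidHom.coe_range]
    exact Th55.thCtx_gen Z
  notMem := by
    intro h
    have hi := (Th55.card_range_index Z hdvd).1
    have htop : thPhi.range = ⊤ := by
      refine top_unique ?_
      rw [← Th55.thCtx_gen Z, Subgroup.closure_le]
      rintro x (hx | rfl)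
      exacts [hx, h]
    rw [htop, Subgroup.index_top] at hi
    omega
  n7 := n7_mem Z hpar hdvd
  conj7 := conj7_mem Z hpar hdvd
  u_map := fun y hy => by
    obtain ⟨z, hz⟩ := u_push Z hy
    have e : (gg .u)⁻¹ * thPhi y * gg .u = thPhi z := by
      rw [mul_assoc, hz, inv_mul_cancel_left]
    refine ⟨z, ?_, e⟩
    rw [← S_one_eq Z hdvd, mem_S_one, ← e]
    exact ⟨y, by group⟩
  u_stab := fun y hy => by
    rw [← S_one_eq Z hdvd, mem_S_one, u_conj_iff Z]
    exact hy
  suborbit := suborbit_mem Z hdvd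

include Z hdvd hpar in
theorem card_out_th : Nat.card (Cfsg.Out Th) = 1 := by
  have : Finite Kbar := Nat.finite_of_card_ne_zero (by rw [ThK83.card_Kbar]; norm_num)
  have : Finite Th := Th55.th_finite Z
  exact (thSetup Z hdvd hpar).card_out

end Cfsg.Agent.Lib.ThOut39
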