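/-! Generated: words for the elements of order seven in the stabilisers and their images -/

set_option maxRecDepth 100000

namespace Cfsg.Agent.Lib.ThOut39

/-- an element of order seven in the sixth stabiliser -/
def z5W : List Nat := [0x5754231219564345784232]

/-- its image -/
def y5W : List Nat := [0x753423456427345734234542]

/-- a generator in the last stabiliser -/
def z1W : List Nat := [0x6656456345316423456345342]

/-- its image -/
def y1W : List Nat := [0x657234315745642342321]

/-- a second generator -/
def z2W : List Nat := [0x43457234325745734342343]

/-- its image -/
def y2W : List Nat := [0x57234572345317234563456231]

/-- a conjugator into the group of `s` -/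
def kyW : List Nat := [0x54327543654692345721]

/-- its inverse -/
def kyI : List Nat := [0x12654328745734562345]

/-- the eight lines of the group of `s` and `w`: exponents, a conjugator, its inverse, the exponent
reached and whether the line stays in the class of `s` -/
def sevenLines : List (Nat × Nat × List Nat × List Nat × Nat × Bool) :=
  [(1, 0, [], [], 1, true),
    (1, 1, [0x6546572343423451], [0x1543243432657457], 6, false),
    (1, 2, [0x65465742341234543], [0x34543214324657457], 1, false),
    (1, 3, [0x543246543475634579234521], [0x125432865437564345742345], 1, true),
    (1, 4, [0x65465792343423451], [0x15432434328657457], 3, false),
    (1, 5, [0x54324654347563457234531], [0x13543265437564345742345], 2, true),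
    (1, 6, [0x54324654347563457234521], [0x12543265437564345742345], 2, true),
    (0, 1, [0x24345642345741234532], [0x23543214654324754342], 3, false)]

end Cfsg.Agent.Lib.ThOut39
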