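import Cfsg.Agent.Lib.ThOut39.AutCheck
import Cfsg.Agent.Lib.ThOut39.SevenData

/-! Evaluation of the checks on elements of order seven. -/

set_option maxRecDepth 100000
set_option maxHeartbeats 0

namespace Cfsg.Agent.Lib.ThOut39

open Cfsg.Agent.Lib.ThK83 (band forallB rangeB nth hold)

/-- no point is fixed -/
noncomputable def noFix (u : List Nat) : Bool :=
  rangeB (fun p => nay (Nat.beq (qtabs.go u p) p)) 819 0

/-- the product of two powers numbered below 49 -/
noncomputable def comb (x y : List Nat) (n : Nat) : List Nat :=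
  powW x (Nat.div n 7) ++ powW y (Nat.mod n 7)

/-- two words generate a group of order 49 -/
noncomputable def planeOK (x y : List Nat) : Bool :=
  band (eqv (powW x 7) []) (band (eqv (powW y 7) []) (band (eqv (x ++ y) (y ++ x))
    (rangeB (fun n => ite2 (Nat.beq n 0) true (nay (eqv (comb x y n) []))) 49 0)))

theorem plane_sw : planeOK sW wW = true := by decide +kernel

theorem plane_z : planeOK z1W z2W = true := by decide +kernel

theorem z5_order : band (eqv (powW z5W 7) []) (nay (eqv z5W [])) = true := by decide +kernel

theorem z5_noFix : noFix z5W = true := by decide +kernel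

theorem z_pairs : rangeB (fun n => ite2 (Nat.beq n 0) true
    (ite2 (noFix (comb z1W z2W n)) true (noFix (comb y1W y2W n)))) 49 0 = true := by decide +kernel

theorem sw_cover : rangeB (fun n => ite2 (Nat.beq n 0) true
    (existsB (fun e => existsB (fun m => eqv (comb sW wW n) (powW (powW sW e.1 ++ powW wW e.2.1) m))
      [1, 2, 3, 4, 5, 6]) sevenLines)) 49 0 = true := by decide +kernel

theorem lines_ok : forallB (fun e => band (eqv (e.2.2.1 ++ e.2.2.2.1) [])
    (eqv (e.2.2.2.1 ++ ((powW sW e.1 ++ powW wW e.2.1) ++ e.2.2.1))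
      (powW (ite2 e.2.2.2.2.2 sW z1W) e.2.2.2.2.1))) sevenLines = true := by decide +kernel

theorem y1_line : band (eqv (kyW ++ kyI) []) (eqv (kyI ++ (y1W ++ kyW)) sW) = true := by
  decide +kernel

end Cfsg.Agent.Lib.ThOut39
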