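import Cfsg.Agent.Lib.ThOut39.Facts
import Cfsg.Agent.Lib.ThOut39.SevenCheck

/-!
Planes of order 49 in `Kbar` and the conjugacy of the lines of the plane of `s` and `w`.
-/

set_option autoImplicit false

namespace Cfsg.Agent.Lib.ThOut39

open Cfsg.Agent.Lib.ThK83 (Kbar rep forallB rangeB nth band_eq forallB_iff rangeB_spec beqN_iff)

theorem ev_comb (x y : List ℕ) (n : ℕ) :
    rep.ev (comb x y n) = rep.ev x ^ (n / 7) * rep.ev y ^ (n % 7) := by
  show rep.ev (powW x (n / 7) ++ powW y (n % 7)) = _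
  rw [ThK83.Rep.ev_append, ev_powW, ev_powW]

theorem ev_pow7 {x : List ℕ} (h : eqv (powW x 7) [] = true) : rep.ev x ^ 7 = 1 := by
  rw [← ev_powW, ev_eq h, ThK83.Rep.ev_nil]

/-- the plane of two words -/
noncomputable def plane (x y : List ℕ) : Subgroup Kbar := Subgroup.closure {rep.ev x, rep.ev y}

theorem planeOK_spec {x y : List ℕ} (h : planeOK x y = true) :
    rep.ev x ^ 7 = 1 ∧ rep.ev y ^ 7 = 1 ∧ Commute (rep.ev x) (rep.ev y) ∧
      ∀ a b : ℕ, rep.ev x ^ a * rep.ev y ^ b = 1 → a % 7 = 0 ∧ b % 7 = 0 := by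
  simp only [planeOK, band_eq, Bool.and_eq_true] at h
  obtain ⟨hx, hy, hc, hn⟩ := h
  refine ⟨ev_pow7 hx, ev_pow7 hy, comm_of_eqv hc, fun a b e => ?_⟩
  rw [pow_eq_pow_mod a (ev_pow7 hx), pow_eq_pow_mod b (ev_pow7 hy)] at e
  by_contra hne
  have h0 : a % 7 * 7 + b % 7 ≠ 0 := by omega
  have hl : a % 7 * 7 + b % 7 < 49 := by omega
  have h' := rangeB_spec hn _ (Nat.zero_le _) hl
  rw [ite2_eq, if_neg (by rw [beqN_iff]; exact h0)] at h'
  have h2 := nay_eqv h'
  rw [ev_comb, ThK83.Rep.ev_nil, show (a % 7 * 7 + b % 7) / 7 = a % 7 by omega,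
    show (a % 7 * 7 + b % 7) % 7 = b % 7 by omega] at h2
  exact h2 e

theorem plane_mem {x y : List ℕ} (h : planeOK x y = true) {g : Kbar} (hg : g ∈ plane x y) :
    ∃ n < 49, g = rep.ev (comb x y n) := by
  obtain ⟨hx, hy, hc, -⟩ := planeOK_spec h
  have red : ∀ a b : ℕ, ∃ n < 49, rep.ev x ^ a * rep.ev y ^ b = rep.ev (comb x y n) := fun a b =>
    ⟨a % 7 * 7 + b % 7, by omega, by
      rw [ev_comb, show (a % 7 * 7 + b % 7) / 7 = a % 7 by omega,
        show (a % 7 * 7 + b % 7) % 7 = b % 7 by omega, ← pow_eq_pow_mod a hx,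
        ← pow_eq_pow_mod b hy]⟩
  induction hg using Subgroup.closure_induction with
  | mem g hg =>
    rcases hg with rfl | rfl
    · simpa using red 1 0
    · simpa using red 0 1
  | one => simpa using red 0 0
  | mul u v _ _ hu hv =>
    obtain ⟨i, -, rfl⟩ := hu
    obtain ⟨k, -, rfl⟩ := hv
    obtain ⟨n, hn, e⟩ := red (i / 7 + k / 7) (i % 7 + k % 7)
    refine ⟨n, hn, ?_⟩
    rw [← e, ev_comb, ev_comb, pow_add, pow_add, mul_assoc, ← mul_assoc (rep.ev y ^ _),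
      (hc.symm.pow_pow _ _).eq]
    simp only [mul_assoc]
  | inv u _ hu =>
    obtain ⟨i, -, rfl⟩ := hu
    obtain ⟨n, hn, e⟩ := red (6 * (i / 7)) (6 * (i % 7))
    refine ⟨n, hn, ?_⟩
    rw [← e, ev_comb]
    refine inv_eq_of_mul_eq_one_right ?_
    rw [mul_assoc, ← mul_assoc (rep.ev y ^ _), (hc.symm.pow_pow _ _).eq]
    simp only [← mul_assoc, ← pow_add]
    rw [show i / 7 + 6 * (i / 7) = 7 * (i / 7) by ring, mul_assoc, ← pow_add,
      show i % 7 + 6 * (i % 7) = 7 * (i % 7) by ring, pow_mul, pow_mul, hx, hy, one_pow,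
      one_pow, one_mul]

theorem plane_card {x y : List ℕ} (h : planeOK x y = true) : Nat.card (plane x y) = 7 ^ 2 := by
  obtain ⟨hx, hy, hc, hn⟩ := planeOK_spec h
  have hxm : rep.ev x ∈ plane x y := Subgroup.subset_closure (Set.mem_insert _ _)
  have hym : rep.ev y ∈ plane x y :=
    Subgroup.subset_closure (Set.mem_insert_of_mem _ (Set.mem_singleton _))
  have hmem : ∀ n : ℕ, rep.ev (comb x y n) ∈ plane x y := fun n => by
    rw [ev_comb]
    exact (plane x y).mul_mem ((plane x y).pow_mem hxm _) ((plane x y).pow_mem hym _)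
  let f : Fin 49 → plane x y := fun n => ⟨rep.ev (comb x y n), hmem n⟩
  have hf : Function.Bijective f := by
    constructor
    · intro i k e
      have e' : rep.ev x ^ ((i : ℕ) / 7) * rep.ev y ^ ((i : ℕ) % 7) =
          rep.ev x ^ ((k : ℕ) / 7) * rep.ev y ^ ((k : ℕ) % 7) := by
        simpa [f, ev_comb] using congrArg Subtype.val e
      have hb : ∀ (z : Kbar) (b : ℕ), z ^ 7 = 1 → z ^ (7 * b) = 1 := fun z b hz => by
        rw [pow_mul, hz, one_pow]
      have e2 := congrArg (fun t => t * (rep.ev y ^ (6 * ((k : ℕ) % 7)) *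
        rep.ev x ^ (6 * ((k : ℕ) / 7)))) e'
      simp only [mul_assoc] at e2
      simp only [← mul_assoc (rep.ev y ^ ((k : ℕ) % 7)), ← mul_assoc (rep.ev y ^ ((i : ℕ) % 7)),
        ← pow_add] at e2
      rw [show (k : ℕ) % 7 + 6 * ((k : ℕ) % 7) = 7 * ((k : ℕ) % 7) by ring, hb _ _ hy, one_mul,
        ← pow_add, show (k : ℕ) / 7 + 6 * ((k : ℕ) / 7) = 7 * ((k : ℕ) / 7) by ring, hb _ _ hx,
        (hc.symm.pow_pow _ _).eq, ← mul_assoc, ← pow_add] at e2
      obtain ⟨h1, h2⟩ := hn _ _ e2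
      have := i.2
      have := k.2
      have ha : (i : ℕ) / 7 = (k : ℕ) / 7 := by
        have h7i : (i : ℕ) / 7 < 7 := by omega
        have h7k : (k : ℕ) / 7 < 7 := by omega
        revert h1 h7i h7k
        generalize (i : ℕ) / 7 = u, (k : ℕ) / 7 = v
        omega
      have hb' : (i : ℕ) % 7 = (k : ℕ) % 7 := by
        have h7i : (i : ℕ) % 7 < 7 := by omega
        have h7k : (k : ℕ) % 7 < 7 := by omega
        revert h2 h7i h7k
        generalize (i : ℕ) % 7 = u, (k : ℕ) % 7 = v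
        omega
      exact Fin.ext (by omega)
    · rintro ⟨g, hg⟩
      obtain ⟨n, hn', e⟩ := plane_mem h hg
      exact ⟨⟨n, hn'⟩, Subtype.ext e.symm⟩
  rw [← Nat.card_congr (Equiv.ofBijective f hf), Nat.card_fin]; norm_num

/-- what the lines of the plane of `s` and `w` need -/
theorem line_cases {n : ℕ} (hn : n < 49) (h0 : n ≠ 0) :
    ∃ k : Kbar, ∃ m e : ℕ, k⁻¹ * rep.ev (comb sW wW n) * k = eS ^ (m * e) ∨
      k⁻¹ * rep.ev (comb sW wW n) * k = rep.ev z1W ^ (m * e) := by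
  have h := rangeB_spec sw_cover n (Nat.zero_le _) (by omega)
  rw [ite2_eq, if_neg (by rw [beqN_iff]; exact h0)] at h
  obtain ⟨⟨a, b, kw, ki, m, good⟩, hmem, h2⟩ := existsB_iff.1 h
  obtain ⟨e, -, he⟩ := existsB_iff.1 h2
  have hl := forallB_iff.1 lines_ok _ hmem
  simp only [band_eq, Bool.and_eq_true] at hl
  obtain ⟨h3, h4⟩ := hl
  have hki : rep.ev ki = (rep.ev kw)⁻¹ := by
    refine eq_inv_of_mul_eq_one_right ?_
    rw [← ThK83.Rep.ev_append, ev_eq h3, ThK83.Rep.ev_nil]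
  have hL := ev_eq h4
  simp only [ThK83.Rep.ev_append, ev_powW, hki] at hL
  refine ⟨rep.ev kw, m, e, ?_⟩
  have hx : rep.ev (comb sW wW n) = (rep.ev sW ^ a * rep.ev wW ^ b) ^ e := by
    have := ev_eq he
    simpa only [ThK83.Rep.ev_append, ev_powW] using this
  rw [hx, show (rep.ev kw)⁻¹ * (rep.ev sW ^ a * rep.ev wW ^ b) ^ e * rep.ev kw =
    ((rep.ev kw)⁻¹ * (rep.ev sW ^ a * rep.ev wW ^ b) * rep.ev kw) ^ e by
      simpa using (conj_pow (a := (rep.ev kw)⁻¹) (b := rep.ev sW ^ a * rep.ev wW ^ b) (i := e)).symm]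
  rw [show (rep.ev kw)⁻¹ * (rep.ev sW ^ a * rep.ev wW ^ b) * rep.ev kw =
    (rep.ev kw)⁻¹ * (rep.ev sW ^ a * rep.ev wW ^ b * rep.ev kw) by rw [mul_assoc], hL, ← pow_mul]
  cases good
  · exact Or.inr rfl
  · exact Or.inl rfl

theorem y1_conj : (rep.ev kyW)⁻¹ * rep.ev y1W * rep.ev kyW = eS := by
  have h := y1_line
  simp only [band_eq, Bool.and_eq_true] at h
  have hki : rep.ev kyI = (rep.ev kyW)⁻¹ := by
    refine eq_inv_of_mul_eq_one_right ?_
    rw [← ThK83.Rep.ev_append, ev_eq h.1, ThK83.Rep.ev_nil]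
  have e := ev_eq h.2
  simp only [ThK83.Rep.ev_append, hki] at e
  rw [mul_assoc, e]; rfl

end Cfsg.Agent.Lib.ThOut39
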