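import Cfsg.Agent.Lib.Th22.Main
import Cfsg.Agent.Lib.Th55.Trivial
import Cfsg.Agent.Lib.ThOut39.SevenData

/-!
Equations between coset representatives and words of `Kbar` in the Thompson group, checked in
the representation over the field with three elements.
-/

set_option autoImplicit false
set_option maxRecDepth 20000

namespace Cfsg.Agent.Lib.ThOut39

open Cfsg.Spor
open Cfsg.Agent.Lib.Th55 (gg)
open Cfsg.Agent.Lib.Th22 (rho letterCT evalW beqT idT okG_letter)

/-- a letter as a signed generator -/
def thLet (l : ℕ) : Th.Gen × Bool :=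
  [(.a, true), (.b, true), (.c, true), (.d, true), (.e, true), (.s, true), (.s, false), (.t, true),
    (.t, false)].getD l (.a, true)

/-- a word of `Kbar` as signed generators -/
noncomputable def kLets (u : List ℕ) : List (Th.Gen × Bool) := (ThK83.decode u).map thLet

/-- one more step of a representative -/
noncomputable def wStep (L : List (Th.Gen × Bool)) (h : List ℕ) : List (Th.Gen × Bool) :=
  L ++ kLets h ++ [(.u, true)]

/-- the second representative -/
noncomputable def wL1 : List (Th.Gen × Bool) := wStep [] []
/-- the third representative -/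
noncomputable def wL2 : List (Th.Gen × Bool) := wStep wL1 [1858]
/-- the fourth representative -/
noncomputable def wL3 : List (Th.Gen × Bool) := wStep wL2 [0x45695423456343]
/-- the sixth representative -/
noncomputable def wL5 : List (Th.Gen × Bool) := wStep wL2 [0x45782345743453]
/-- the eighth representative -/
noncomputable def wL7 : List (Th.Gen × Bool) := wStep wL3 [0x684562312]
/-- the last representative -/
noncomputable def wL10 : List (Th.Gen × Bool) := wStep wL7 [0x745723]

/-- the word of the equation `W z W⁻¹ = y` -/
noncomputable def eqWord (W : List (Th.Gen × Bool)) (z y : List ℕ) : List (Th.Gen × Bool) :=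
  W ++ kLets z ++ FreeGroup.invRev W ++ FreeGroup.invRev (kLets y)

/-- the word gives the unit matrix -/
noncomputable def eqCheck (W : List (Th.Gen × Bool)) (z y : List ℕ) : Bool :=
  beqT (evalW ((eqWord W z y).map letterCT)) idT

/-- a section of the evaluation -/
theorem fold_step {l : List Th22.CT} {a n : ℕ} {t t' : Th22.T}
    (h : beqT (((l.drop a).take n).foldl Th22.mul t) t' = true) :
    (l.drop a).foldl Th22.mul t = (l.drop (a + n)).foldl Th22.mul t' := by
  conv_lhs => rw [← List.take_append_drop n (l.drop a)]
  rw [List.foldl_append, Th22.beqT_eq h, List.drop_drop]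

/-- the end of the evaluation -/
theorem fold_end {l : List Th22.CT} {n : ℕ} (h : l.length = n) {t : Th22.T} :
    (l.drop n).foldl Th22.mul t = t := by
  rw [List.drop_eq_nil_of_le h.le]; rfl

theorem beqT_refl : ∀ t : Th22.T, beqT t t = true
  | .leaf p n => by
    show Bool.rec false (Nat.beq n n) (Nat.beq p p) = true
    rw [(Nat.beq_refl n : Nat.beq n n = true), (Nat.beq_refl p : Nat.beq p p = true)]
  | .node l r => by
    show Bool.rec false (beqT r r) (beqT l l) = true
    rw [beqT_refl l, beqT_refl r]

theorem eqCheck_of_fold {W : List (Th.Gen × Bool)} {z y : List ℕ}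
    (h : (((eqWord W z y).map letterCT).drop 0).foldl Th22.mul idT = idT) :
    eqCheck W z y = true := by
  rw [List.drop_zero] at h
  show beqT (((eqWord W z y).map letterCT).foldl Th22.mul idT) idT = true
  rw [h]; exact beqT_refl _

/-- the value of signed generators -/
noncomputable def thv (L : List (Th.Gen × Bool)) : Th := FreeGroup.lift gg (FreeGroup.mk L)

theorem thv_append (L M : List (Th.Gen × Bool)) : thv (L ++ M) = thv L * thv M := by
  rw [thv, ← FreeGroup.mul_mk, map_mul]; rfl

theorem thv_invRev (L : List (Th.Gen × Bool)) : thv (FreeGroup.invRev L) = (thv L)⁻¹ := by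
  rw [thv, ← FreeGroup.inv_mk, map_inv]; rfl

theorem rho_gg (x : Th.Gen) : rho (gg x) = Th22.genU x := PresentedGroup.toGroup.of Th22.lift_rel

theorem rho_thv (L : List (Th.Gen × Bool)) :
    rho (thv L) = (L.map fun x => cond x.2 (Th22.genU x.1) (Th22.genU x.1)⁻¹).prod := by
  rw [thv, FreeGroup.lift_mk, map_list_prod, List.map_map]
  refine congrArg List.prod (List.map_congr_left fun x _ => ?_)
  obtain ⟨g, b⟩ := x
  cases b <;> simp [rho_gg]

theorem rho_injective (hs : IsSimpleGroup Th) : Function.Injective rho := by
  rw [← MonoidHom.ker_eq_bot_iff]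
  rcases hs.eq_bot_or_eq_top_of_normal _ (MonoidHom.normal_ker rho) with h | h
  · exact h
  · obtain ⟨g, hg⟩ := Th22.rho_nontrivial
    exact absurd (MonoidHom.mem_ker.1 (h ▸ Subgroup.mem_top g)) hg

theorem thv_eq_of_check (hs : IsSimpleGroup Th) {W : List (Th.Gen × Bool)} {z y : List ℕ}
    (h : eqCheck W z y = true) :
    thv W * thv (kLets z) * (thv W)⁻¹ = thv (kLets y) := by
  have hm := Th22.prod_eq_one (w := (eqWord W z y).map letterCT) (fun g hg => by
    obtain ⟨x, -, rfl⟩ := List.mem_map.1 hg; exact okG_letter x) h
  have h1 : thv (eqWord W z y) = 1 := rho_injective hs (by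
    rw [rho_thv, map_one]
    refine Units.ext ?_
    rw [Th22.val_prod, hm]
    rfl)
  rw [eqWord, thv_append, thv_append, thv_append, thv_invRev, thv_invRev, mul_inv_eq_one] at h1
  exact h1

end Cfsg.Agent.Lib.ThOut39
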